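import Groth.Agent.WApprox26.Char
import Groth.Agent.IsoTriv.HopfDescent
import Groth.Agent.HenselLib.Local
import Groth.Agent.HenselLib.ValRingWEt
import Mathlib.RingTheory.Localization.Away.Basic
import Mathlib.RingTheory.Flat.Equalizer
import Mathlib.LinearAlgebra.TensorProduct.Pi
import Mathlib.LinearAlgebra.FreeModule.PID
import Mathlib.GroupTheory.QuotientGroup.Basic

/-! Points of groups of multiplicative type over the punctured henselization of a valuation ring. -/

set_option linter.style.haveILetI false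
set_option linter.unusedSectionVars false
set_option autoImplicit false
set_option maxHeartbeats 800000
universe u

open TensorProduct

noncomputable section

namespace Groth.Agent.WApprox26

section Fixed

variable {V C : Type u} [CommRing V] [CommRing C] [IsDomain C] [Algebra V C]

/-- The action on a base change of the splitting algebra. -/
def bAct (B : Type u) [CommRing B] [Algebra V B] (σ : C ≃ₐ[V] C) : C ⊗[V] B →ₐ[V] C ⊗[V] B :=
  Algebra.TensorProduct.map σ.toAlgHom (AlgHom.id V B)

/-- Invariants of a flat base change of a Galois algebra. -/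
theorem exists_eq_tmul_of_fixed (B : Type u) [CommRing B] [Algebra V B] [Module.Flat V B]
    (hC : ∀ c : C, (∀ σ : C ≃ₐ[V] C, σ c = c) → ∃ v : V, algebraMap V C v = c) [Finite (C ≃ₐ[V] C)]
    (z : C ⊗[V] B) (hz : ∀ σ : C ≃ₐ[V] C, bAct B σ z = z) : ∃ b : B, (1 : C) ⊗ₜ[V] b = z := by
  classical
  haveI := Fintype.ofFinite (C ≃ₐ[V] C)
  let f : C →ₗ[V] ((C ≃ₐ[V] C) → C) := LinearMap.pi fun σ => σ.toLinearMap - LinearMap.id
  have hex : Function.Exact (Algebra.linearMap V C) f := fun c => by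
    constructor
    · intro h
      exact hC c fun σ => sub_eq_zero.1 (congrFun h σ)
    · rintro ⟨v, rfl⟩
      funext σ
      show σ (algebraMap V C v) - algebraMap V C v = 0
      rw [σ.commutes, sub_self]
  have key : ∀ w : C ⊗[V] B, TensorProduct.piLeft (R := V) (N := B) (M := fun _ : C ≃ₐ[V] C => C) (f.rTensor B w) =
      fun σ => bAct B σ w - w := fun w => by
    induction w using TensorProduct.induction_on with
    | zero => simp only [map_zero, sub_zero]; rfl
    | add p q hp hq =>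
      simp only [map_add, hp, hq]
      funext σ
      simp only [Pi.add_apply]
      abel
    | tmul c b =>
      funext σ
      simp [f, bAct, TensorProduct.sub_tmul]
  have hzero : f.rTensor B z = 0 := (TensorProduct.piLeft (R := V) (N := B) (M := fun _ : C ≃ₐ[V] C => C)).injective (by
    rw [key, map_zero]
    funext σ
    rw [hz, sub_self]; rfl)
  obtain ⟨w, hw⟩ := ((Module.Flat.rTensor_exact B hex) z).1 hzero
  refine ⟨TensorProduct.lid V B w, ?_⟩
  rw [← hw]
  clear hw hzero
  induction w using TensorProduct.induction_on with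
  | zero => simp
  | add p q hp hq => simp only [map_add, tmul_add, hp, hq]
  | tmul v b => simp [Algebra.algebraMap_eq_smul_one, TensorProduct.smul_tmul]

variable {H : Type u} [CommRing H] [Bialgebra V H] {N : Type u} [CommGroup N] (e : C ⊗[V] H ≃ₐc[C] MonoidAlgebra C N)

/-- The characters of a point of a base change. -/
def chiB {B : Type u} [CommRing B] [Algebra V B] (x : H →ₐ[V] B) : N →* C ⊗[V] B :=
  chi e (Algebra.TensorProduct.includeRight.comp x)

theorem chiB_act {B : Type u} [CommRing B] [Algebra V B] (x : H →ₐ[V] B) (σ : C ≃ₐ[V] C) (m : N) :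
    chiB e x (act e σ m) = bAct B σ (chiB e x m) := by
  have h := chi_comp_act e σ (bAct B σ) (fun c => by simp [bAct]) (Algebra.TensorProduct.includeRight.comp x) m
  rwa [show (bAct B σ).comp (Algebra.TensorProduct.includeRight.comp x) = Algebra.TensorProduct.includeRight.comp x from
    AlgHom.ext fun a => by simp [bAct]] at h

theorem chiB_comp {B B' : Type u} [CommRing B] [Algebra V B] [CommRing B'] [Algebra V B'] (g : B →ₐ[V] B')
    (x : H →ₐ[V] B) (m : N) :
    chiB e (g.comp x) m = Algebra.TensorProduct.map (AlgHom.id V C) g (chiB e x m) := by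
  have h := chi_comp e (Algebra.TensorProduct.map (AlgHom.id V C) g) (fun c => by simp)
    (Algebra.TensorProduct.includeRight.comp x) m
  rwa [show (Algebra.TensorProduct.map (AlgHom.id V C) g).comp (Algebra.TensorProduct.includeRight.comp x) =
    Algebra.TensorProduct.includeRight.comp (g.comp x) from AlgHom.ext fun a => by simp] at h

theorem chiB_mulPt {B : Type u} [CommRing B] [Algebra V B] (x y : H →ₐ[V] B) :
    chiB e (mulPt x y) = chiB e x * chiB e y := by
  rw [chiB, chiB, chiB, ← chi_mulPt]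
  congr 1
  show _ = (Algebra.TensorProduct.lift _ _ _).comp _
  rw [mulPt, ← AlgHom.comp_assoc]
  congr 1
  exact Algebra.TensorProduct.ext' fun p q => by simp

/-- An equivariant family of characters is a point. -/
theorem exists_point (B : Type u) [CommRing B] [Algebra V B] [Module.Flat V B] [Module.FaithfullyFlat V C]
    (hC : ∀ c : C, (∀ σ : C ≃ₐ[V] C, σ c = c) → ∃ v : V, algebraMap V C v = c) [Finite (C ≃ₐ[V] C)]
    (φ : N →* C ⊗[V] B) (hφ : ∀ σ m, φ (act e σ m) = bAct B σ (φ m)) :
    ∃ x : H →ₐ[V] B, chiB e x = φ := by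
  let x' : H →ₐ[V] C ⊗[V] B := ofChi e φ
  have hfix : ∀ σ : C ≃ₐ[V] C, (bAct B σ).comp x' = x' := fun σ => chi_injective e (MonoidHom.ext fun m => by
    obtain ⟨m', rfl⟩ := act_surjective e σ m
    rw [chi_comp_act e σ (bAct B σ) (fun c => by simp [bAct]), chi_ofChi, hφ])
  have hinj : Function.Injective (Algebra.TensorProduct.includeRight : B →ₐ[V] C ⊗[V] B) := fun p q h =>
    IsoTriv.eq_of_one_tmul (R := V) C h
  obtain ⟨x, hx⟩ := IsoTriv.exists_algHom_of_range (Algebra.TensorProduct.includeRight : B →ₐ[V] C ⊗[V] B) hinj x'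
    fun h => exists_eq_tmul_of_fixed B hC (x' h) fun σ => DFunLike.congr_fun (hfix σ) h
  refine ⟨x, ?_⟩
  rw [chiB, show Algebra.TensorProduct.includeRight.comp x = x' from AlgHom.ext hx]
  exact chi_ofChi e φ

end Fixed

section Val

variable {V : Type u} [CommRing V] [IsDomain V] [ValuationRing V] {a : V} (ha : a ≠ 0)

include ha in
theorem exists_mul_pow_eq_unit {E : Type u} [CommRing E] [IsDomain E] [Algebra V E]
    (hl : ∀ v : V, IsUnit (algebraMap V E v) → IsUnit v) (hi : Function.Injective (algebraMap V E)) {v v' : V} (hv : v ≠ 0)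
    {t : Eˣ} (h : algebraMap V E v = t * algebraMap V E v') : ∃ s : Vˣ, v = s * v' := by
  rcases ValuationRing.cond v v' with ⟨c, hc | hc⟩
  · have h2 : algebraMap V E v' = (algebraMap V E c * t) * algebraMap V E v' := by
      conv_lhs => rw [← hc, map_mul, h]
      ring
    have hv' : algebraMap V E v' ≠ 0 := fun h0 => hv (hi (by rw [h, h0, mul_zero, map_zero]))
    have h3 : algebraMap V E c * t = 1 := mul_right_cancel₀ hv' (by rw [← h2, one_mul])
    obtain ⟨s, rfl⟩ := hl c (IsUnit.of_mul_eq_one _ h3)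
    exact ⟨s⁻¹, by rw [← hc, mul_comm v, ← mul_assoc, Units.inv_mul, one_mul]⟩
  · have h2 : (algebraMap V E c : E) * algebraMap V E v' = t * algebraMap V E v' := by
      rw [← h, ← hc, map_mul, mul_comm]
    have hv' : algebraMap V E v' ≠ 0 := fun h0 => hv (hi (by rw [h, h0, mul_zero, map_zero]))
    obtain ⟨s, rfl⟩ := hl c ((mul_right_cancel₀ hv' h2).symm ▸ t.isUnit)
    exact ⟨s, by rw [← hc, mul_comm]⟩

variable (a)

/-- Values on the punctured spectrum. -/
def ValGrp : Type u :=
  Additive ((Localization.Away a)ˣ ⧸ (Units.map (algebraMap V (Localization.Away a)).toMonoidHom).range)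

instance : AddCommGroup (ValGrp a) :=
  inferInstanceAs (AddCommGroup (Additive ((Localization.Away a)ˣ ⧸
    (Units.map (algebraMap V (Localization.Away a)).toMonoidHom).range)))

/-- The value of a unit. -/
def valCl : Additive (Localization.Away a)ˣ →+ ValGrp a :=
  MonoidHom.toAdditive (QuotientGroup.mk' (Units.map (algebraMap V (Localization.Away a)).toMonoidHom).range)

variable {a}

theorem exists_num_den (q : (Localization.Away a)ˣ) :
    ∃ (v : V) (l : ℕ), (q : Localization.Away a) * algebraMap V _ (a ^ l) = algebraMap V _ v ∧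
      IsUnit (algebraMap V (Localization.Away a) v) := by
  obtain ⟨l, v, h⟩ := IsLocalization.Away.surj a (q : Localization.Away a)
  refine ⟨v, l, by rw [map_pow]; exact h, ?_⟩
  rw [← h]
  exact q.isUnit.mul ((IsLocalization.Away.algebraMap_isUnit a).pow l)

include ha in
theorem valGrp_torsionFree (z : ValGrp a) (n : ℕ) (hn : n ≠ 0) (hz : n • z = 0) : z = 0 := by
  obtain ⟨q, rfl⟩ : ∃ q, valCl a q = z := by
    obtain ⟨q, hq⟩ := QuotientGroup.mk_surjective (Additive.toMul z)
    exact ⟨Additive.ofMul q, congrArg Additive.ofMul hq⟩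
  rw [← map_nsmul] at hz
  obtain ⟨t, ht⟩ : Additive.toMul (n • q) ∈ (Units.map (algebraMap V (Localization.Away a)).toMonoidHom).range :=
    (QuotientGroup.eq_one_iff _).1 (congrArg Additive.toMul hz)
  refine congrArg Additive.ofMul ((QuotientGroup.eq_one_iff (Additive.toMul q)).2 ?_)
  obtain ⟨v, l, hvl, -⟩ := exists_num_den (Additive.toMul q)
  have hinj : Function.Injective (algebraMap V (Localization.Away a)) :=
    IsLocalization.injective _ (powers_le_nonZeroDivisors_of_noZeroDivisors ha)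
  have h1 : v ^ n = t * (a ^ l) ^ n := hinj (by
    rw [map_pow, ← hvl, mul_pow, map_mul, map_pow (algebraMap V (Localization.Away a)) (a ^ l) n]
    congr 1
    have := congrArg Units.val ht
    rw [toMul_nsmul, Units.val_pow_eq_pow_val] at this
    exact this.symm)
  obtain ⟨s, hs⟩ : ∃ s : Vˣ, v = s * a ^ l := by
    rcases ValuationRing.cond v (a ^ l) with ⟨c, hc | hc⟩
    · have h2 : (t : V) * c ^ n = 1 := mul_right_cancel₀ (pow_ne_zero n (show v ≠ 0 from fun h0 => by
        rw [h0, zero_mul] at hc; exact pow_ne_zero l ha hc.symm)) (by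
          rw [one_mul]; conv_rhs => rw [h1, ← hc, mul_pow]
          ring)
      obtain ⟨s, rfl⟩ := (isUnit_pow_iff hn).1 (IsUnit.of_mul_eq_one_right _ h2)
      exact ⟨s⁻¹, by rw [← hc, mul_comm v, ← mul_assoc, Units.inv_mul, one_mul]⟩
    · have h2 : c ^ n = t := mul_left_cancel₀ (pow_ne_zero n (pow_ne_zero l ha)) (by
        rw [← mul_pow, hc, h1, mul_comm])
      obtain ⟨s, rfl⟩ := (isUnit_pow_iff hn).1 (h2 ▸ t.isUnit)
      exact ⟨s, by rw [← hc, mul_comm]⟩
  refine ⟨s, Units.ext ((((IsLocalization.Away.algebraMap_isUnit a).pow l)).mul_left_inj.1 ?_)⟩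
  rw [← map_pow, hvl, hs, map_mul]
  rfl

include ha in
theorem ne_zero_of_isUnit_away {v : V} (hv : IsUnit (algebraMap V (Localization.Away a) v)) : v ≠ 0 := by
  rintro rfl
  rw [map_zero] at hv
  haveI : Nontrivial (Localization.Away a) :=
    (IsLocalization.injective _ (powers_le_nonZeroDivisors_of_noZeroDivisors ha)).nontrivial
  exact not_isUnit_zero hv

variable (a)

/-- The value of an element which is a unit on the punctured spectrum. -/
def vcl (v : V) (hv : IsUnit (algebraMap V (Localization.Away a) v)) : ValGrp a := valCl a (Additive.ofMul hv.unit)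

variable {a}

theorem isUnit_away_pow (l : ℕ) : IsUnit (algebraMap V (Localization.Away a) (a ^ l)) := by
  rw [map_pow]; exact (IsLocalization.Away.algebraMap_isUnit a).pow _

theorem vcl_mul {v v' : V} (hv : IsUnit (algebraMap V (Localization.Away a) v))
    (hv' : IsUnit (algebraMap V (Localization.Away a) v')) (h) : vcl a (v * v') h = vcl a v hv + vcl a v' hv' := by
  rw [vcl, vcl, vcl, ← map_add, ← ofMul_mul]
  congr 2
  exact Units.ext (by simp [map_mul])

theorem vcl_unit_mul (s : Vˣ) {v : V} (hv : IsUnit (algebraMap V (Localization.Away a) v)) (h) :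
    vcl a (s * v) h = vcl a v hv := by
  have hs : IsUnit (algebraMap V (Localization.Away a) s) := s.isUnit.map _
  have h0 : vcl a (s : V) hs = 0 := congrArg Additive.ofMul ((QuotientGroup.eq_one_iff _).2 ⟨s, Units.ext rfl⟩)
  rw [vcl_mul hs hv, h0, zero_add]

include ha in
theorem exists_eq_unit_mul_of_vcl {v v' : V} (hv : IsUnit (algebraMap V (Localization.Away a) v))
    (hv' : IsUnit (algebraMap V (Localization.Away a) v')) (h : vcl a v hv = vcl a v' hv') :
    ∃ s : Vˣ, v = s * v' := by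
  obtain ⟨s, hs⟩ := QuotientGroup.eq.1 (congrArg Additive.toMul h)
  refine ⟨s⁻¹, IsLocalization.injective (Localization.Away a) (powers_le_nonZeroDivisors_of_noZeroDivisors ha) ?_⟩
  have h1 := congrArg Units.val hs
  rw [Units.val_mul, toMul_ofMul] at h1
  change algebraMap V (Localization.Away a) s = _ * algebraMap V (Localization.Away a) v' at h1
  rw [map_mul]
  refine ((s.isUnit.map (algebraMap V (Localization.Away a))).mul_right_inj).1 ?_
  rw [← mul_assoc, ← map_mul (algebraMap V (Localization.Away a)) (s : V) ((s⁻¹ : Vˣ) : V), Units.mul_inv, map_one,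
    one_mul, h1, mul_comm _ (algebraMap V _ v'), mul_assoc,
    show (↑hv.unit⁻¹ : Localization.Away a) * algebraMap V _ v = 1 from hv.val_inv_mul, mul_one]

include ha in
/-- The values of units over the punctured spectrum, at places which are unramified extensions. -/
theorem exists_vl {R R' : Type u} [CommRing R] [Algebra V R] [CommRing R'] [Algebra V R'] (jR : R →ₐ[V] R')
    (hjR : Function.Injective jR) (hclear : ∀ z : R', ∃ (l : ℕ) (r : R), z * algebraMap V R' (a ^ l) = jR r)
    (hua : IsUnit (algebraMap V R' a)) {P : Type u} (E : P → Type u) [∀ i, CommRing (E i)] [∀ i, IsDomain (E i)]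
    [∀ i, Algebra V (E i)] (π : ∀ i, R →ₐ[V] E i) (hπ : Function.Bijective fun r i => π i r)
    (hl : ∀ i (v : V), IsUnit (algebraMap V (E i) v) → IsUnit v) (hi : ∀ i, Function.Injective (algebraMap V (E i)))
    (hvalE : ∀ i (b : E i), b ≠ 0 → ∃ (v : V) (w : (E i)ˣ), b = w * algebraMap V (E i) v) :
    ∃ vl : P → Additive R'ˣ →+ ValGrp a,
      (∀ i (w : R'ˣ) r (t : (E i)ˣ) v hv, jR r = w → π i r = t * algebraMap V (E i) v →
        vl i (Additive.ofMul w) = vcl a v hv) ∧
      (∀ w : R'ˣ, (∀ i, vl i (Additive.ofMul w) = 0) → ∃ r, jR r = w) ∧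
      ∀ (p : P → P) (σR : R →ₐ[V] R) (θ : R' →ₐ[V] R'), (∀ r, θ (jR r) = jR (σR r)) →
        (∀ i, ∃ η : E i →ₐ[V] E (p i), ∀ r, η (π i r) = π (p i) (σR r)) →
        ∀ i (w : R'ˣ), vl (p i) (Additive.ofMul (Units.map θ.toRingHom.toMonoidHom w)) = vl i (Additive.ofMul w) := by
  classical
  let IsVal : ∀ i, R'ˣ → ValGrp a → Prop := fun i w g => ∃ (l : ℕ) (r : R) (t : (E i)ˣ) (v : V) (hv : _),
    (w : R') * algebraMap V R' (a ^ l) = jR r ∧ π i r = t * algebraMap V (E i) v ∧
      g = vcl a v hv - vcl a (a ^ l) (isUnit_away_pow l)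
  have huniq : ∀ i w g g', IsVal i w g → IsVal i w g' → g = g' := by
    rintro i w g g' ⟨l, r, t, v, hv, hr, hπr, rfl⟩ ⟨l', r', t', v', hv', hr', hπr', rfl⟩
    have h1 : r * algebraMap V R (a ^ l') = r' * algebraMap V R (a ^ l) := hjR (by
      rw [map_mul, map_mul, jR.commutes, jR.commutes, ← hr, ← hr']; ring)
    have h2 := congrArg (π i) h1
    rw [map_mul, map_mul, AlgHom.commutes, AlgHom.commutes, hπr, hπr'] at h2
    have hE : algebraMap V (E i) (v * a ^ l') = (t⁻¹ * t' : (E i)ˣ) * algebraMap V (E i) (v' * a ^ l) := by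
      rw [Units.val_mul, mul_assoc, Units.eq_inv_mul_iff_mul_eq, map_mul, map_mul]
      linear_combination h2
    obtain ⟨s, hs⟩ := exists_mul_pow_eq_unit ha (hl i) (hi i)
      (mul_ne_zero (ne_zero_of_isUnit_away ha hv) (pow_ne_zero _ ha)) hE
    have hu : IsUnit (algebraMap V (Localization.Away a) (v' * a ^ l)) := by
      rw [map_mul]; exact hv'.mul (isUnit_away_pow l)
    have h3 : vcl a (v * a ^ l') (by rw [map_mul]; exact hv.mul (isUnit_away_pow l')) = vcl a (v' * a ^ l) hu := by
      rw [← vcl_unit_mul s hu (by rw [map_mul]; exact (s.isUnit.map _).mul hu)]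
      congr 1
    rw [vcl_mul hv (isUnit_away_pow l'), vcl_mul hv' (isUnit_away_pow l)] at h3
    rw [sub_eq_sub_iff_add_eq_add, h3]
  have hex : ∀ i (w : R'ˣ), ∃ g, IsVal i w g := fun i w => by
    obtain ⟨l, r, hr⟩ := hclear w
    obtain ⟨l', r', hr'⟩ := hclear ((w⁻¹ : R'ˣ) : R')
    have h3 : r * r' = algebraMap V R (a ^ (l + l')) := hjR (by
      rw [map_mul, ← hr, ← hr', jR.commutes, pow_add, map_mul, mul_mul_mul_comm, Units.mul_inv, one_mul])
    have h4 := congrArg (π i) h3
    rw [map_mul, AlgHom.commutes] at h4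
    have hA : algebraMap V (E i) (a ^ (l + l')) ≠ 0 := (map_ne_zero_iff _ (hi i)).2 (pow_ne_zero _ ha)
    have hr0 : π i r ≠ 0 := fun h0 => hA (by rw [← h4, h0, zero_mul])
    obtain ⟨v, t, hvt⟩ := hvalE i _ hr0
    rw [hvt] at h4
    have hvu : IsUnit (algebraMap V (Localization.Away a) v) := by
      rcases ValuationRing.cond v (a ^ (l + l')) with ⟨c, hc | hc⟩
      · refine isUnit_of_mul_isUnit_left (y := algebraMap V (Localization.Away a) c) ?_
        rw [← map_mul, hc]
        exact isUnit_away_pow _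
      · have hd : IsUnit (algebraMap V (E i) c) := by
          refine IsUnit.of_mul_eq_one ((t : E i) * π i r') (mul_left_cancel₀ hA ?_)
          rw [mul_one, ← mul_assoc, ← map_mul, hc]
          conv_rhs => rw [← h4]
          ring
        rw [← hc, map_mul]
        exact (isUnit_away_pow _).mul ((hl i c hd).map _)
    exact ⟨_, l, r, t, v, hvu, hr, hvt, rfl⟩
  have hmul : ∀ i w w' g g', IsVal i w g → IsVal i w' g' → IsVal i (w * w') (g + g') := by
    rintro i w w' g g' ⟨l, r, t, v, hv, hr, hπr, rfl⟩ ⟨l', r', t', v', hv', hr', hπr', rfl⟩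
    refine ⟨l + l', r * r', t * t', v * v', by rw [map_mul]; exact hv.mul hv', ?_, ?_, ?_⟩
    · rw [Units.val_mul, map_mul, ← hr, ← hr', pow_add, map_mul]; ring
    · rw [map_mul, hπr, hπr', Units.val_mul, map_mul]; ring
    · have h5 : vcl a (a ^ (l + l')) (isUnit_away_pow _) =
          vcl a (a ^ l * a ^ l') (by rw [← pow_add]; exact isUnit_away_pow _) := by
        congr 1; exact pow_add a l l'
      rw [h5, vcl_mul hv hv', vcl_mul (isUnit_away_pow l) (isUnit_away_pow l')]
      abel
  choose g hg using hex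
  refine ⟨fun i => AddMonoidHom.mk' (fun w => g i (Additive.toMul w)) fun w w' =>
    huniq i _ _ _ (hg i _) (hmul i _ _ _ _ (hg i _) (hg i _)), ?_, ?_, ?_⟩
  · intro i w r t v hv hr hπr
    refine huniq i w _ _ (hg i w) ⟨0, r, t, v, hv, by rw [pow_zero, map_one, mul_one, hr], hπr, ?_⟩
    have h0 : vcl a (a ^ 0) (isUnit_away_pow 0) = 0 := by
      have h := vcl_mul (isUnit_away_pow (a := a) 0) (isUnit_away_pow (a := a) 0)
        (by rw [← pow_add]; exact isUnit_away_pow _)
      rw [show vcl a (a ^ 0 * a ^ 0) _ = vcl a (a ^ 0) (isUnit_away_pow 0) by congr 1; simp] at h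
      exact add_eq_left.1 h.symm
    rw [h0, sub_zero]
  · intro w hw
    obtain ⟨l, r₀, hr₀⟩ := hclear w
    have hdiv : ∀ i, ∃ q, π i r₀ = q * algebraMap V (E i) (a ^ l) := fun i => by
      obtain ⟨l', r, t, v, hv, hr, hπr, hg0⟩ := hg i w
      obtain ⟨s, rfl⟩ := exists_eq_unit_mul_of_vcl ha hv (isUnit_away_pow l') (sub_eq_zero.1 (hg0.symm.trans (hw i)))
      refine ⟨t * algebraMap V (E i) s, mul_right_cancel₀ ((map_ne_zero_iff _ (hi i)).2 (pow_ne_zero l' ha)) ?_⟩
      have h1 : r₀ * algebraMap V R (a ^ l') = r * algebraMap V R (a ^ l) := hjR (by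
        rw [map_mul, map_mul, jR.commutes, jR.commutes, ← hr, ← hr₀]; ring)
      have h2 := congrArg (π i) h1
      rw [map_mul, map_mul, AlgHom.commutes, AlgHom.commutes, hπr] at h2
      rw [h2, map_mul]; ring
    choose q hq using hdiv
    obtain ⟨r, hr⟩ := hπ.2 q
    refine ⟨r, ?_⟩
    have hr' : r * algebraMap V R (a ^ l) = r₀ := hπ.1 (funext fun i => by
      show π i _ = π i r₀
      rw [map_mul, AlgHom.commutes, show π i r = q i from congrFun hr i, hq])
    rw [← ((hua.pow l).mul_left_inj), ← map_pow, hr₀, ← hr', map_mul, jR.commutes]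
  · intro p σR θ hθ hη i w
    obtain ⟨η, hη⟩ := hη i
    obtain ⟨l, r, t, v, hv, hr, hπr, hgv⟩ := hg i w
    refine huniq (p i) _ _ _ (hg (p i) _) ⟨l, σR r, Units.map η.toRingHom.toMonoidHom t, v, hv, ?_, ?_, hgv⟩
    · show θ w * _ = _
      rw [← θ.commutes (a ^ l), ← map_mul, hr, hθ]
    · rw [← hη, hπr, map_mul, η.commutes]; rfl

end Val

section Approx

variable {V Vh C : Type u} [CommRing V] [CommRing Vh] [Algebra V Vh] [Module.FaithfullyFlat V Vh] [CommRing C]
  [Algebra V C] [Finite (C ≃ₐ[V] C)]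

theorem exists_bb {P : Type u} [DecidableEq P] (E : P → Type u) [∀ i, CommRing (E i)] [∀ i, IsLocalRing (E i)]
    [∀ i, Algebra V (E i)] (π : ∀ i, C ⊗[V] Vh →ₐ[V] E i) (hπ : Function.Bijective fun r i => π i r)
    (hl : ∀ i (v : V), IsUnit (algebraMap V (E i) v) → IsUnit v)
    (eI : P → C ⊗[V] Vh) (heI : ∀ i n, π n (eI i) = if n = i then 1 else 0)
    (p : (C ≃ₐ[V] C) →* Equiv.Perm P) (heσ : ∀ σ i, bAct Vh σ (eI i) = eI (p σ i))
    (a v : V) (hv : IsUnit (algebraMap V (Localization.Away a) v))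
    (happrox : ∀ r : Vh, ∃ v₀ : V, algebraMap V Vh v ^ 2 ∣ r - algebraMap V Vh v₀) :
    ∃ b : P → C, (∀ σ i, σ (b i) = b (p σ i)) ∧
      (∀ i n, ∃ t : (E n)ˣ, π n (b i ⊗ₜ[V] (1 : Vh)) = t * if n = i then algebraMap V (E n) v else 1) ∧
      ∀ i, IsUnit (b i ⊗ₜ[V] (1 : Localization.Away a)) := by
  classical
  haveI := Fintype.ofFinite (C ≃ₐ[V] C)
  by_cases hvu : IsUnit v
  · refine ⟨fun _ => 1, fun σ _ => map_one σ, fun i n =>
      ⟨if n = i then ((hvu.map (algebraMap V (E n))).unit)⁻¹ else 1, ?_⟩, fun _ => isUnit_one⟩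
    rw [← Algebra.TensorProduct.one_def, map_one]
    split_ifs <;> simp
  have hid : ∀ i, IsIdempotentElem (eI i) := fun i => hπ.1 (funext fun n => by
    show π n (eI i * eI i) = π n (eI i)
    rw [map_mul, heI]
    split_ifs <;> simp)
  have h0 : ∀ r : C ⊗[V] Vh, ∃ c : C, algebraMap V (C ⊗[V] Vh) v ^ 2 ∣ (c ⊗ₜ[V] (1 : Vh)) - r := fun r => by
    induction r using TensorProduct.induction_on with
    | zero => exact ⟨0, by simp⟩
    | add p q hp hq =>
      obtain ⟨c, hc⟩ := hp
      obtain ⟨c', hc'⟩ := hq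
      exact ⟨c + c', by rw [add_tmul, add_sub_add_comm]; exact dvd_add hc hc'⟩
    | tmul c b =>
      obtain ⟨v₀, w, hw⟩ := happrox b
      refine ⟨v₀ • c, -(c ⊗ₜ[V] w), ?_⟩
      rw [show algebraMap V (C ⊗[V] Vh) v ^ 2 = (1 : C) ⊗ₜ[V] (algebraMap V Vh v ^ 2) by
          rw [← map_pow, ← map_pow]
          exact ((Algebra.TensorProduct.includeRight : Vh →ₐ[V] C ⊗[V] Vh).commutes (v ^ 2)).symm,
        mul_neg, Algebra.TensorProduct.tmul_mul_tmul, one_mul, ← hw, TensorProduct.tmul_sub,
        TensorProduct.smul_tmul, Algebra.smul_def, mul_one]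
      abel
  choose c₀ hc₀ using fun i => h0 (eI i)
  let c : P → C := fun i => ∏ τ : C ≃ₐ[V] C, τ (c₀ ((p τ).symm i))
  have hcσ : ∀ σ i, σ (c i) = c (p σ i) := fun σ i => by
    rw [map_prod]
    refine Fintype.prod_equiv (Equiv.mulLeft σ) _ _ fun τ => ?_
    rw [Equiv.coe_mulLeft, map_mul]
    show σ (τ _) = σ (τ _)
    congr 3
    rw [Equiv.Perm.mul_def, Equiv.symm_trans_apply, Equiv.symm_apply_apply]
  have hcR : ∀ i, algebraMap V (C ⊗[V] Vh) v ^ 2 ∣ (c i ⊗ₜ[V] (1 : Vh)) - eI i := fun i => by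
    set I := Ideal.span {algebraMap V (C ⊗[V] Vh) v ^ 2}
    rw [← Ideal.mem_span_singleton, ← Ideal.Quotient.eq]
    show Ideal.Quotient.mk I ((Algebra.TensorProduct.includeLeft : C →ₐ[V] C ⊗[V] Vh) _) = _
    rw [map_prod, map_prod]
    have h1 : ∀ τ : C ≃ₐ[V] C, Ideal.Quotient.mk I (τ (c₀ ((p τ).symm i)) ⊗ₜ[V] (1 : Vh)) =
        Ideal.Quotient.mk I (eI i) := fun τ => by
      rw [Ideal.Quotient.eq, Ideal.mem_span_singleton]
      have h2 := map_dvd (bAct Vh τ) (hc₀ ((p τ).symm i))
      rw [map_pow, AlgHom.commutes, map_sub, heσ, Equiv.apply_symm_apply] at h2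
      simpa [bAct] using h2
    show ∏ τ : C ≃ₐ[V] C, Ideal.Quotient.mk I (τ (c₀ ((p τ).symm i)) ⊗ₜ[V] (1 : Vh)) = _
    rw [Finset.prod_congr rfl fun τ _ => h1 τ, Finset.prod_const, ← map_pow,
      (hid i).pow_eq (Finset.card_ne_zero.2 Finset.univ_nonempty)]
  let b : P → C := fun i => algebraMap V C v * c i + (1 - c i)
  have hbπ : ∀ i n, ∃ t : (E n)ˣ, π n (b i ⊗ₜ[V] (1 : Vh)) = t * if n = i then algebraMap V (E n) v else 1 := by
    intro i n
    obtain ⟨w, hw⟩ := hcR i
    have hcn : π n (c i ⊗ₜ[V] (1 : Vh)) = (if n = i then 1 else 0) + algebraMap V (E n) v ^ 2 * π n w := by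
      have h := congrArg (π n) hw
      rw [map_sub, map_mul, map_pow, AlgHom.commutes, heI] at h
      rw [← h]
      ring
    have hb : π n (b i ⊗ₜ[V] (1 : Vh)) = algebraMap V (E n) v * π n (c i ⊗ₜ[V] (1 : Vh)) +
        (1 - π n (c i ⊗ₜ[V] (1 : Vh))) := by
      show ((π n).comp (Algebra.TensorProduct.includeLeft : C →ₐ[V] C ⊗[V] Vh)) _ = _
      simp [b, Algebra.TensorProduct.includeLeft_apply, add_tmul, sub_tmul, map_add, map_sub, map_mul, ← Algebra.TensorProduct.one_def]
    have hnu : ¬ IsUnit (algebraMap V (E n) v) := fun h => hvu (hl n v h)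
    have hu : ∀ z : E n, IsUnit (1 + algebraMap V (E n) v * z) := fun z =>
      IsLocalRing.isUnit_of_mem_nonunits_one_sub_self _ (by
        rw [sub_add_cancel_left, mem_nonunits_iff, IsUnit.neg_iff]
        exact fun h => hnu (isUnit_of_mul_isUnit_left h))
    by_cases hn : n = i
    · rw [if_pos hn] at hcn ⊢
      refine ⟨(hu ((algebraMap V (E n) v - 1) * π n w)).unit, ?_⟩
      rw [hb, hcn, IsUnit.unit_spec]
      ring
    · rw [if_neg hn] at hcn ⊢
      refine ⟨(hu (algebraMap V (E n) v * (algebraMap V (E n) v - 1) * π n w)).unit, ?_⟩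
      rw [hb, hcn, IsUnit.unit_spec]
      ring
  refine ⟨b, fun σ i => by simp [b, hcσ], hbπ, fun i => ?_⟩
  choose t ht using hbπ i
  obtain ⟨r, hr⟩ := hπ.2 (fun n => ((t n)⁻¹ : (E n)ˣ) * (if n = i then 1 else algebraMap V (E n) v))
  have hdvd : algebraMap V (C ⊗[V] Vh) v = (b i ⊗ₜ[V] (1 : Vh)) * r := hπ.1 (funext fun n => by
    show π n _ = π n _
    have hr' : π n r = _ := congrFun hr n
    rw [map_mul, AlgHom.commutes, ht, hr', mul_mul_mul_comm, Units.mul_inv, one_mul]
    split_ifs <;> simp)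
  have hmem : algebraMap V C v ∈ Ideal.span {b i} := by
    rw [← Ideal.comap_map_eq_self_of_faithfullyFlat (B := C ⊗[V] Vh) (Ideal.span {b i}), Ideal.mem_comap,
      Ideal.map_span, Set.image_singleton, Ideal.mem_span_singleton, ← IsScalarTower.algebraMap_apply]
    exact ⟨r, hdvd⟩
  obtain ⟨d, hd⟩ := Ideal.mem_span_singleton.1 hmem
  refine isUnit_of_mul_isUnit_left (y := d ⊗ₜ[V] (1 : Localization.Away a)) ?_
  rw [Algebra.TensorProduct.tmul_mul_tmul, ← hd, mul_one,
    show (algebraMap V C v ⊗ₜ[V] (1 : Localization.Away a)) = algebraMap V (C ⊗[V] Localization.Away a) v from rfl,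
    ← (Algebra.TensorProduct.includeRight : Localization.Away a →ₐ[V] C ⊗[V] Localization.Away a).commutes v]
  exact hv.map _

end Approx

section Assembly

variable {V C : Type u} [CommRing V] [IsDomain V] [ValuationRing V] [CommRing C] [IsDomain C] [Algebra V C]
  [Module.FaithfullyFlat V C] [Finite (C ≃ₐ[V] C)]
  {H : Type u} [CommRing H] [Bialgebra V H] {N : Type u} [CommGroup N] [Group.FG N]

theorem exists_points_of_vals (e : C ⊗[V] H ≃ₐc[C] MonoidAlgebra C N)
    (hC : ∀ c : C, (∀ σ : C ≃ₐ[V] C, σ c = c) → ∃ v : V, algebraMap V C v = c)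
    {a : V} (ha : a ≠ 0) {Vh Vh' : Type u} [CommRing Vh] [Algebra V Vh] [Module.Flat V Vh] [CommRing Vh'] [Algebra V Vh']
    {W : Type u} [CommRing W] [Algebra V W] [Module.Flat V W]
    (j₁ : W →ₐ[V] Vh') (jh : Vh →ₐ[V] Vh')
    (hjR : Function.Injective (Algebra.TensorProduct.map (AlgHom.id V C) jh))
    {P : Type u} [Fintype P] [DecidableEq P] (p : (C ≃ₐ[V] C) → Equiv.Perm P)
    (vl : P → Additive (C ⊗[V] Vh')ˣ →+ ValGrp a)
    (hrange : ∀ w : (C ⊗[V] Vh')ˣ, (∀ i, vl i (Additive.ofMul w) = 0) →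
      ∃ r, Algebra.TensorProduct.map (AlgHom.id V C) jh r = w)
    (hvlσ : ∀ σ i w, vl (p σ i) (Additive.ofMul (Units.map (bAct Vh' σ).toRingHom.toMonoidHom w)) =
      vl i (Additive.ofMul w))
    (hB : ∀ v hv, ∃ B : P → (C ⊗[V] W)ˣ,
      (∀ σ i, Units.map (bAct W σ).toRingHom.toMonoidHom (B i) = B (p σ i)) ∧
      ∀ i n, vl n (Additive.ofMul (Units.map (Algebra.TensorProduct.map (AlgHom.id V C) j₁).toRingHom.toMonoidHom (B i))) =
        if n = i then vcl a v hv else 0)
    (x : H →ₐ[V] Vh') :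
    ∃ (y : H →ₐ[V] W) (z : H →ₐ[V] Vh), x = mulPt (j₁.comp y) (jh.comp z) := by
  classical
  let jpR : C ⊗[V] W →ₐ[V] C ⊗[V] Vh' := Algebra.TensorProduct.map (AlgHom.id V C) j₁
  let Jp : Additive (C ⊗[V] W)ˣ →+ Additive (C ⊗[V] Vh')ˣ :=
    MonoidHom.toAdditive (Units.map jpR.toRingHom.toMonoidHom)
  choose Bu hBuσ hBu using hB
  -- the values of the point
  let u : N →* (C ⊗[V] Vh')ˣ := (chiB e x).toHomUnits
  have huσ : ∀ σ m, u (act e σ m) = Units.map (bAct Vh' σ).toRingHom.toMonoidHom (u m) := fun σ m =>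
    Units.ext (chiB_act e x σ m)
  let f : P → Additive N →+ ValGrp a := fun i => (vl i).comp (MonoidHom.toAdditive u)
  obtain ⟨S, hS⟩ := (Group.fg_def.1 ‹Group.FG N›)
  let Γ : Submodule ℤ (ValGrp a) :=
    Submodule.span ℤ (⋃ i : P, (fun s => f i (Additive.ofMul s)) '' (S : Set N))
  have hfΓ : ∀ i m, f i (Additive.ofMul m) ∈ Γ := fun i m => by
    have hm : m ∈ Subgroup.closure (S : Set N) := hS ▸ Subgroup.mem_top m
    induction hm using Subgroup.closure_induction with
    | mem s hs => exact Submodule.subset_span (Set.mem_iUnion_of_mem i ⟨s, hs, rfl⟩)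
    | one => rw [ofMul_one, map_zero]; exact zero_mem _
    | mul p q _ _ hp hq => rw [ofMul_mul, map_add]; exact add_mem hp hq
    | inv p _ hp => rw [ofMul_inv, map_neg]; exact neg_mem hp
  haveI : Module.Finite ℤ Γ := Module.Finite.span_of_finite ℤ
    (Set.finite_iUnion fun i => S.finite_toSet.image _)
  haveI : Module.IsTorsionFree ℤ Γ := by
    have h0 : ∀ (z : ValGrp a) (k : ℤ), k ≠ 0 → k • z = 0 → z = 0 := fun z k hk hz => by
      rcases Int.natAbs_eq k with h | h <;> rw [h] at hz
      · rw [natCast_zsmul] at hz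
        exact valGrp_torsionFree ha z _ (Int.natAbs_ne_zero.2 hk) hz
      · rw [neg_smul, natCast_zsmul, neg_eq_zero] at hz
        exact valGrp_torsionFree ha z _ (Int.natAbs_ne_zero.2 hk) hz
    refine ⟨fun k hk γ γ' hγ => sub_eq_zero.1 (Subtype.ext (h0 _ k hk.ne_zero ?_))⟩
    have := congrArg Subtype.val (sub_eq_zero.2 hγ)
    rw [← smul_sub] at this
    exact this
  let β := Module.Free.chooseBasis ℤ Γ
  have hrep : ∀ k, ∃ (v w : V) (hv : _) (hw : _), vcl a v hv - vcl a w hw = (β k : ValGrp a) := fun k => by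
    obtain ⟨q, hq⟩ := QuotientGroup.mk_surjective (Additive.toMul (β k : ValGrp a))
    obtain ⟨v, l, hvl', hvu⟩ := exists_num_den q
    refine ⟨v, a ^ l, hvu, isUnit_away_pow l, ?_⟩
    rw [show (β k : ValGrp a) = valCl a (Additive.ofMul q) from congrArg Additive.ofMul hq.symm, sub_eq_iff_eq_add,
      vcl, vcl, ← map_add, ← ofMul_mul]
    congr 2
    exact Units.ext (by rw [Units.val_mul, IsUnit.unit_spec, IsUnit.unit_spec, hvl'])
  choose bv bw hbv hbw hrep using hrep
  let B : P → Γ →ₗ[ℤ] Additive (C ⊗[V] W)ˣ := fun i =>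
    β.constr ℤ fun k => Additive.ofMul (Bu _ (hbv k) i) - Additive.ofMul (Bu _ (hbw k) i)
  have hBval : ∀ i n γ, vl n (Jp (B i γ)) = if n = i then (γ : ValGrp a) else 0 := by
    intro i n γ
    have h : ((vl n).comp Jp).toIntLinearMap ∘ₗ B i = if n = i then Γ.subtype else 0 := β.ext fun k => by
      show vl n (Jp (B i (β k))) = _
      rw [β.constr_basis, map_sub, map_sub]
      show vl n (Additive.ofMul (Units.map jpR.toRingHom.toMonoidHom (Bu _ (hbv k) i))) -
        vl n (Additive.ofMul (Units.map jpR.toRingHom.toMonoidHom (Bu _ (hbw k) i))) = _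
      rw [hBu, hBu]
      split_ifs
      · exact hrep k
      · simp
    have h' := LinearMap.congr_fun h γ
    split_ifs with hn
    · rw [if_pos hn] at h'; exact h'
    · rw [if_neg hn] at h'; exact h'
  have hBσ : ∀ i σ γ, Units.map (bAct W σ).toRingHom.toMonoidHom (Additive.toMul (B i γ)) =
      Additive.toMul (B (p σ i) γ) := by
    intro i σ γ
    have h : (MonoidHom.toAdditive (Units.map (bAct W σ).toRingHom.toMonoidHom)).toIntLinearMap ∘ₗ
        B i = B (p σ i) :=
      β.ext fun k => by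
        show MonoidHom.toAdditive (Units.map (bAct W σ).toRingHom.toMonoidHom) (B i (β k)) = _
        rw [β.constr_basis, β.constr_basis, map_sub]
        show Additive.ofMul (Units.map _ _) - Additive.ofMul (Units.map _ _) = _
        rw [toMul_ofMul, toMul_ofMul, hBuσ, hBuσ]
    exact congrArg Additive.toMul (LinearMap.congr_fun h γ)
  -- the rational point
  let fΓ : P → Additive N →+ Γ := fun i => (f i).codRestrict Γ (fun m => hfΓ i (Additive.toMul m))
  let φu : N →* (C ⊗[V] W)ˣ :=
    MonoidHom.toAdditive.symm (∑ i, (B i).toAddMonoidHom.comp (fΓ i))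
  have hφu : ∀ m, Additive.ofMul (φu m) = ∑ i, B i (fΓ i (Additive.ofMul m)) := fun m => by
    simp [φu]
  obtain ⟨y, hy⟩ := exists_point e W hC ((Units.coeHom _).comp φu) fun σ m => by
    have h : Additive.ofMul (φu (act e σ m)) =
        MonoidHom.toAdditive (Units.map (bAct W σ).toRingHom.toMonoidHom)
          (Additive.ofMul (φu m)) := by
      rw [hφu, hφu, map_sum]
      refine (Fintype.sum_equiv (p σ) _ _ fun i => ?_).symm
      have hff : fΓ (p σ i) (Additive.ofMul (act e σ m)) = fΓ i (Additive.ofMul m) := Subtype.ext (by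
        show vl (p σ i) (Additive.ofMul (u (act e σ m))) = vl i (Additive.ofMul (u m))
        rw [huσ, hvlσ])
      rw [hff]
      exact congrArg Additive.ofMul (hBσ i σ _)
    exact congrArg (fun t => ((Additive.toMul t : (C ⊗[V] W)ˣ) : C ⊗[V] W)) h
  let w : N →* (C ⊗[V] Vh')ˣ := u * ((Units.map jpR.toRingHom.toMonoidHom).comp φu)⁻¹
  have hw : ∀ m, (u m : C ⊗[V] Vh') = jpR (φu m) * w m := fun m => by
    show _ = ((Units.map jpR.toRingHom.toMonoidHom (φu m) : (C ⊗[V] Vh')ˣ) : C ⊗[V] Vh') * _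
    rw [← Units.val_mul]
    show _ = ((Units.map jpR.toRingHom.toMonoidHom (φu m) * (u m * (Units.map jpR.toRingHom.toMonoidHom (φu m))⁻¹) : (C ⊗[V] Vh')ˣ) : C ⊗[V] Vh')
    rw [mul_comm (u m), mul_inv_cancel_left]
  have hwval : ∀ n m, vl n (Additive.ofMul (w m)) = 0 := fun n m => by
    show vl n (Additive.ofMul (u m * (Units.map jpR.toRingHom.toMonoidHom (φu m))⁻¹)) = 0
    rw [ofMul_mul, ofMul_inv, map_add, map_neg,
      show Additive.ofMul (Units.map jpR.toRingHom.toMonoidHom (φu m)) = Jp (Additive.ofMul (φu m)) from rfl,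
      hφu, map_sum, map_sum]
    simp_rw [hBval]
    rw [Finset.sum_ite_eq, if_pos (Finset.mem_univ n)]
    exact add_neg_cancel (f n (Additive.ofMul m))
  choose rz hrz using fun m => hrange (w m) fun n => hwval n m
  let φz : N →* C ⊗[V] Vh :=
    { toFun := rz
      map_one' := hjR (by rw [hrz, map_one w, Units.val_one, map_one])
      map_mul' := fun m m' => hjR (by rw [hrz, map_mul w, Units.val_mul, map_mul, hrz, hrz]) }
  obtain ⟨z, hz⟩ := exists_point e Vh hC φz fun σ m => hjR (by
    show Algebra.TensorProduct.map (AlgHom.id V C) jh (rz (act e σ m)) =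
      Algebra.TensorProduct.map (AlgHom.id V C) jh (bAct Vh σ (rz m))
    have hc1 : ∀ q, jpR (bAct W σ q) = bAct Vh' σ (jpR q) := fun q => by
      induction q using TensorProduct.induction_on with
      | zero => simp
      | add p q hp hq => simp only [map_add, hp, hq]
      | tmul c b => simp [jpR, bAct]
    have hc2 : ∀ q, Algebra.TensorProduct.map (AlgHom.id V C) jh (bAct Vh σ q) =
        bAct Vh' σ (Algebra.TensorProduct.map (AlgHom.id V C) jh q) := fun q => by
      induction q using TensorProduct.induction_on with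
      | zero => simp
      | add p q hp hq => simp only [map_add, hp, hq]
      | tmul c b => simp [bAct]
    rw [hc2, hrz, hrz]
    refine (((φu (act e σ m)).isUnit.map jpR).mul_right_inj).1 ?_
    rw [← hw]
    have hye : (φu (act e σ m) : C ⊗[V] W) = bAct W σ (φu m) := by
      have h := chiB_act e y σ m
      rwa [hy] at h
    rw [hye, hc1, ← map_mul, ← hw, huσ]
    rfl)
  refine ⟨y, z, ?_⟩
  have key : chiB e x = chiB e (mulPt (j₁.comp y) (jh.comp z)) := MonoidHom.ext fun m => by
    rw [chiB_mulPt, MonoidHom.mul_apply, chiB_comp, chiB_comp, hy, hz]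
    show (u m : C ⊗[V] Vh') = jpR (φu m) * Algebra.TensorProduct.map (AlgHom.id V C) jh (rz m)
    rw [hrz]
    exact hw m
  exact AlgHom.ext fun h => IsoTriv.eq_of_one_tmul (R := V) C (DFunLike.congr_fun (chi_injective e key) h)

end Assembly

section Core

variable {V Vh C : Type u} [CommRing V] [IsDomain V] [ValuationRing V] [CommRing Vh] [IsDomain Vh]
  [HenselianLocalRing Vh] [ValuationRing Vh] [Algebra V Vh] [IsLocalHom (algebraMap V Vh)]
  [Module.FaithfullyFlat V Vh] [CommRing C] [IsDomain C] [Algebra V C] [Algebra.Etale V C] [Module.Finite V C]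
  [Module.Free V C] [Finite (C ≃ₐ[V] C)]
  {H : Type u} [CommRing H] [Bialgebra V H] {N : Type u} [CommGroup N] [Group.FG N]

set_option synthInstance.maxHeartbeats 100000 in
/-- The decomposition of the points on the punctured henselization. -/
theorem exists_points_val (e : C ⊗[V] H ≃ₐc[C] MonoidAlgebra C N)
    (hC : ∀ c : C, (∀ σ : C ≃ₐ[V] C, σ c = c) → ∃ v : V, algebraMap V C v = c)
    (hval : ∀ b : Vh, b ≠ 0 → ∃ (v : V) (w : Vhˣ), b = w * algebraMap V Vh v)
    (a : V) (ha : a ≠ 0)
    (happrox : ∀ v : V, IsUnit (algebraMap V (Localization.Away a) v) → ∀ r : Vh, ∃ v₀ : V,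
      algebraMap V Vh v ^ 2 ∣ r - algebraMap V Vh v₀)
    {Vh' : Type u} [CommRing Vh'] [Algebra Vh Vh'] [Algebra V Vh'] [IsScalarTower V Vh Vh']
    [IsLocalization.Away (algebraMap V Vh a) Vh'] (j₁ : Localization.Away a →ₐ[V] Vh')
    (x : H →ₐ[V] Vh') :
    ∃ (y : H →ₐ[V] Localization.Away a) (z : H →ₐ[V] Vh),
      x = mulPt (j₁.comp y) ((IsScalarTower.toAlgHom V Vh Vh').comp z) := by
  classical
  haveI : Module.Flat Vh Vh' := IsLocalization.flat Vh' (Submonoid.powers (algebraMap V Vh a))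
  haveI : Module.Flat V Vh' := Module.Flat.trans V Vh Vh'
  haveI : Module.Flat V (Localization.Away a) := IsLocalization.flat _ (Submonoid.powers a)
  haveI : Module.FaithfullyFlat V C := inferInstance
  have hah : algebraMap V Vh a ≠ 0 := (map_ne_zero_iff _ (FaithfulSMul.algebraMap_injective V Vh)).2 ha
  have hjh : Function.Injective (IsScalarTower.toAlgHom V Vh Vh') :=
    IsLocalization.injective Vh' (powers_le_nonZeroDivisors_of_noZeroDivisors hah)
  let jR : C ⊗[V] Vh →ₐ[V] C ⊗[V] Vh' :=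
    Algebra.TensorProduct.map (AlgHom.id V C) (IsScalarTower.toAlgHom V Vh Vh')
  have hjR : Function.Injective jR :=
    Module.Flat.lTensor_preserves_injective_linearMap (M := C) (IsScalarTower.toAlgHom V Vh Vh').toLinearMap hjh
  have hua : IsUnit (algebraMap V (C ⊗[V] Vh') a) := by
    rw [← (Algebra.TensorProduct.includeRight : Vh' →ₐ[V] C ⊗[V] Vh').commutes a,
      IsScalarTower.algebraMap_apply V Vh Vh']
    exact (IsLocalization.Away.algebraMap_isUnit _).map _
  have hclear : ∀ z : C ⊗[V] Vh', ∃ (l : ℕ) (r : C ⊗[V] Vh),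
      z * algebraMap V (C ⊗[V] Vh') (a ^ l) = jR r := fun z => by
    induction z using TensorProduct.induction_on with
    | zero => exact ⟨0, 0, by simp⟩
    | tmul c b =>
      obtain ⟨l, r, hr⟩ := IsLocalization.Away.surj (algebraMap V Vh a) b
      refine ⟨l, c ⊗ₜ[V] r, ?_⟩
      rw [show algebraMap V (C ⊗[V] Vh') (a ^ l) = (1 : C) ⊗ₜ[V] algebraMap V Vh' (a ^ l) from
        ((Algebra.TensorProduct.includeRight : Vh' →ₐ[V] C ⊗[V] Vh').commutes _).symm,
        Algebra.TensorProduct.tmul_mul_tmul, mul_one]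
      show _ = c ⊗ₜ[V] algebraMap Vh Vh' r
      rw [← hr, map_pow, ← IsScalarTower.algebraMap_apply]
    | add p q hp hq =>
      obtain ⟨l, r, hr⟩ := hp
      obtain ⟨l', r', hr'⟩ := hq
      refine ⟨l + l', r * algebraMap V _ (a ^ l') + r' * algebraMap V _ (a ^ l), ?_⟩
      rw [map_add, map_mul, map_mul, jR.commutes, jR.commutes, ← hr, ← hr', pow_add, map_mul]
      ring
  letI : Algebra Vh (C ⊗[V] Vh) := Algebra.TensorProduct.rightAlgebra
  haveI : IsScalarTower V Vh (C ⊗[V] Vh) := Algebra.TensorProduct.right_isScalarTower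
  haveI : Module.Finite Vh (C ⊗[V] Vh) :=
    Module.Finite.equiv (Algebra.TensorProduct.commRight V Vh C).toLinearEquiv
  haveI : Algebra.Etale Vh (C ⊗[V] Vh) := Algebra.Etale.of_equiv (Algebra.TensorProduct.commRight V Vh C)
  have hbij := (HenselLib.isPiLocal_iff_bijective Vh (C ⊗[V] Vh)).1 (HenselLib.isPiLocal_of_henselian Vh (C ⊗[V] Vh))
  haveI : Finite (MaximalSpectrum (C ⊗[V] Vh)) := HenselLib.finite_maximalSpectrum Vh (C ⊗[V] Vh)
  letI : Fintype (MaximalSpectrum (C ⊗[V] Vh)) := Fintype.ofFinite _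
  let P := MaximalSpectrum (C ⊗[V] Vh)
  let π : ∀ i : P, C ⊗[V] Vh →ₐ[V] Localization.AtPrime i.asIdeal := fun i =>
    IsScalarTower.toAlgHom V (C ⊗[V] Vh) (Localization.AtPrime i.asIdeal)
  have hπbij : Function.Bijective (fun r (i : P) => π i r) := hbij
  have hwe : ∀ i : P, Algebra.WeaklyEtale Vh (Localization.AtPrime i.asIdeal) := fun i => by
    haveI : Algebra.WeaklyEtale (C ⊗[V] Vh) (Localization.AtPrime i.asIdeal) :=
      HenselLib.WEtNoeth.weaklyEtale_of_isLocalization i.asIdeal.primeCompl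
    exact Algebra.WeaklyEtale.trans Vh (C ⊗[V] Vh) (Localization.AtPrime i.asIdeal)
  haveI hdom : ∀ i : P, IsDomain (Localization.AtPrime i.asIdeal) := fun i => by
    haveI := hwe i
    exact (HenselLib.ValRingWEt.valuationRing Vh (Localization.AtPrime i.asIdeal)).1
  have hlocal : ∀ (i : P) (b : Vh), IsUnit (algebraMap Vh (Localization.AtPrime i.asIdeal) b) → IsUnit b :=
    fun i b hb => by
    rw [IsScalarTower.algebraMap_apply Vh (C ⊗[V] Vh) (Localization.AtPrime i.asIdeal),
      IsLocalization.AtPrime.isUnit_to_map_iff (Localization.AtPrime i.asIdeal) i.asIdeal] at hb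
    by_contra hnb
    haveI : Algebra.IsIntegral Vh (C ⊗[V] Vh) := Algebra.IsIntegral.of_finite Vh (C ⊗[V] Vh)
    haveI := Ideal.isMaximal_comap_of_isIntegral_of_isMaximal (R := Vh) i.asIdeal
    have h : b ∈ Ideal.comap (algebraMap Vh (C ⊗[V] Vh)) i.asIdeal := by
      rw [IsLocalRing.eq_maximalIdeal this]
      exact (IsLocalRing.mem_maximalIdeal _).2 hnb
    exact hb (Ideal.mem_comap.1 h)
  have hl : ∀ (i : P) (v : V), IsUnit (algebraMap V (Localization.AtPrime i.asIdeal) v) → IsUnit v := fun i v hv => by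
    rw [IsScalarTower.algebraMap_apply V Vh (Localization.AtPrime i.asIdeal)] at hv
    exact IsUnit.of_map (algebraMap V Vh) v (hlocal i _ hv)
  have hi' : ∀ i : P, Function.Injective (algebraMap V (Localization.AtPrime i.asIdeal)) := fun i => by
    haveI := hwe i
    rw [IsScalarTower.algebraMap_eq V Vh (Localization.AtPrime i.asIdeal)]
    exact (HenselLib.ValRingWEt.algebraMap_injective_of_flat Vh (Localization.AtPrime i.asIdeal)).comp
      (FaithfulSMul.algebraMap_injective V Vh)
  have hvalE : ∀ (i : P) (b : Localization.AtPrime i.asIdeal), b ≠ 0 →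
      ∃ (v : V) (w : (Localization.AtPrime i.asIdeal)ˣ), b = w * algebraMap V (Localization.AtPrime i.asIdeal) v :=
    fun i b hb => by
    haveI := hwe i
    obtain ⟨b', w, rfl⟩ := HenselLib.ValRingWEt.exists_eq_unit_mul Vh (Localization.AtPrime i.asIdeal) b hb
    obtain ⟨v, w', rfl⟩ := hval b' (fun h0 => hb (by rw [h0, map_zero, mul_zero]))
    exact ⟨v, w * Units.map (algebraMap Vh (Localization.AtPrime i.asIdeal)).toMonoidHom w', by
      rw [map_mul, ← IsScalarTower.algebraMap_apply, Units.val_mul, mul_assoc]; rfl⟩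
  obtain ⟨vl, hvl, hrange, hfun⟩ := exists_vl ha jR hjR hclear hua (fun i : P => Localization.AtPrime i.asIdeal) π
    hπbij hl hi' hvalE
  -- the Galois action on the places
  let σR : (C ≃ₐ[V] C) → C ⊗[V] Vh ≃ₐ[V] C ⊗[V] Vh := fun σ => Algebra.TensorProduct.congr σ AlgEquiv.refl
  have hσRmul : ∀ σ τ r, σR (σ * τ) r = σR σ (σR τ r) := fun σ τ r => by
    induction r using TensorProduct.induction_on with
    | zero => simp
    | add p q hp hq => simp only [map_add, hp, hq]
    | tmul c b => simp [σR]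
  have hσR1 : ∀ r, σR 1 r = r := fun r => by
    induction r using TensorProduct.induction_on with
    | zero => simp
    | add p q hp hq => simp only [map_add, hp, hq]
    | tmul c b => simp [σR]
  let p : (C ≃ₐ[V] C) →* Equiv.Perm P := MonoidHom.toHomPerm
    { toFun := fun σ i => ⟨i.asIdeal.comap (σR σ⁻¹).toAlgHom.toRingHom,
        Ideal.comap_isMaximal_of_surjective _ (σR σ⁻¹).surjective⟩
      map_one' := funext fun i => MaximalSpectrum.ext (Ideal.ext fun r => by
        show σR 1⁻¹ r ∈ i.asIdeal ↔ _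
        rw [inv_one, hσR1]; rfl)
      map_mul' := fun σ τ => funext fun i => MaximalSpectrum.ext (Ideal.ext fun r => by
        show σR (σ * τ)⁻¹ r ∈ i.asIdeal ↔ σR τ⁻¹ (σR σ⁻¹ r) ∈ i.asIdeal
        rw [mul_inv_rev, hσRmul]) }
  have hp : ∀ σ i r, σR σ r ∈ (p σ i).asIdeal ↔ r ∈ i.asIdeal := fun σ i r => by
    show σR σ⁻¹ (σR σ r) ∈ i.asIdeal ↔ _
    rw [← hσRmul, inv_mul_cancel, hσR1]
  have hη : ∀ σ i, ∃ η : Localization.AtPrime i.asIdeal →ₐ[V] Localization.AtPrime (p σ i).asIdeal,
      ∀ r, η (π i r) = π (p σ i) (σR σ r) := fun σ i => by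
    have hη : ∀ y : i.asIdeal.primeCompl, IsUnit (((π (p σ i)).comp (σR σ).toAlgHom) y) := fun y =>
      IsLocalization.map_units (Localization.AtPrime (p σ i).asIdeal)
        (⟨_, fun h => y.2 ((hp σ i y).1 h)⟩ : (p σ i).asIdeal.primeCompl)
    exact ⟨IsLocalization.liftAlgHom (M := i.asIdeal.primeCompl) (f := (π (p σ i)).comp (σR σ).toAlgHom) hη,
      fun r => IsLocalization.lift_eq _ r⟩
  choose eI heI using fun i : P => hπbij.2 (fun n => if n = i then 1 else 0)
  have heI' : ∀ i n, π n (eI i) = if n = i then 1 else 0 := fun i n => congrFun (heI i) n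
  have heσ : ∀ σ i, bAct Vh σ (eI i) = eI (p σ i) := fun σ i => hπbij.1 (funext fun n => by
    obtain ⟨n', rfl⟩ := (p σ).surjective n
    obtain ⟨η, hη⟩ := hη σ n'
    show π (p σ n') (σR σ (eI i)) = π (p σ n') (eI (p σ i))
    rw [← hη, heI', heI']
    by_cases h : n' = i
    · rw [if_pos h, if_pos (by rw [h]), map_one]
    · rw [if_neg h, if_neg (fun h' => h ((p σ).injective h')), map_zero])
  refine exists_points_of_vals e hC ha j₁ (IsScalarTower.toAlgHom V Vh Vh') hjR (fun σ => p σ) vl hrange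
    (fun σ i w => hfun (p σ) (σR σ).toAlgHom (bAct Vh' σ) (fun r => ?_) (hη σ) i w) (fun v hv => ?_) x
  · induction r using TensorProduct.induction_on with
    | zero => simp
    | add p q hp hq => simp only [map_add, hp, hq]
    | tmul c b => simp [jR, bAct, σR]
  obtain ⟨b, hbσ, hbπ, hbu⟩ := exists_bb (fun i : P => Localization.AtPrime i.asIdeal) π hπbij hl eI heI' p heσ a v hv
    (happrox v hv)
  refine ⟨fun i => (hbu i).unit, fun σ i => Units.ext ?_, fun i n => ?_⟩
  · show bAct (Localization.Away a) σ (hbu i).unit = (hbu (p σ i)).unit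
    rw [IsUnit.unit_spec, IsUnit.unit_spec]
    simp [bAct, hbσ]
  obtain ⟨t, ht⟩ := hbπ i n
  have hj : jR (b i ⊗ₜ[V] (1 : Vh)) =
      Units.map (Algebra.TensorProduct.map (AlgHom.id V C) j₁).toRingHom.toMonoidHom (hbu i).unit := by
    show _ = Algebra.TensorProduct.map (AlgHom.id V C) j₁ (hbu i).unit
    rw [IsUnit.unit_spec]
    simp [jR]
  split_ifs with h
  · exact hvl n _ _ t v hv hj (by rw [ht, if_pos h])
  · rw [hvl n _ _ t 1 (by rw [map_one]; exact isUnit_one) hj (by rw [ht, if_neg h, map_one])]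
    exact congrArg Additive.ofMul ((QuotientGroup.eq_one_iff _).2 ⟨1, Units.ext (by simp)⟩)

end Core

end Groth.Agent.WApprox26
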