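import Groth.Agent.WApprox26.Core
import Mathlib.FieldTheory.Galois.Infinite
import Mathlib.FieldTheory.IsSepClosed
import Mathlib.RingTheory.Smooth.Fiber
import Mathlib.RingTheory.Unramified.Field
import Mathlib.RingTheory.TensorProduct.Finite
import Mathlib.LinearAlgebra.FreeModule.PID
import Mathlib.RingTheory.LocalRing.Module
import Mathlib.RingTheory.Flat.TorsionFree
import Mathlib.RingTheory.Finiteness.ModuleFinitePresentation
import Mathlib.RingTheory.Valuation.ValuationRing
import Groth.Agent.WApprox26.Galois

/-! The Galois closure of a finite étale algebra over a valuation ring. -/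

set_option linter.style.haveILetI false
set_option linter.unusedSectionVars false
set_option autoImplicit false
universe u

open TensorProduct

noncomputable section

namespace Groth.Agent.WApprox26.Val

variable {A : Type u} [CommRing A]

variable [IsDomain A] [ValuationRing A] (K : Type u) [Field K] [Algebra A K] [IsFractionRing A K]

theorem exists_algHom_sepClosure [Algebra A (SeparableClosure K)] [IsScalarTower A K (SeparableClosure K)]
    (A₁ : Type u) [CommRing A₁] [Algebra A A₁] [Module.Finite A A₁] [Algebra.Etale A A₁] [Nontrivial A₁] :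
    Nonempty (A₁ →ₐ[A] SeparableClosure K) := by
  haveI : Module.Free A A₁ := Module.free_of_flat_of_isLocalRing
  let R := K ⊗[A] A₁
  haveI : Nontrivial R := (Algebra.TensorProduct.basis K (Module.Free.chooseBasis A A₁)).repr.toEquiv.nontrivial
  obtain ⟨m, hm⟩ := Ideal.exists_maximal R
  let _ := Ideal.Quotient.field m
  haveI : Algebra.FormallyUnramified R (R ⧸ m) :=
    Algebra.FormallyUnramified.of_surjective (Algebra.ofId R (R ⧸ m)) Ideal.Quotient.mk_surjective
  haveI : Algebra.FormallyUnramified K (R ⧸ m) := Algebra.FormallyUnramified.comp K R (R ⧸ m)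
  haveI : Algebra.EssFiniteType K (R ⧸ m) := inferInstance
  haveI : Algebra.IsSeparable K (R ⧸ m) := Algebra.FormallyUnramified.isSeparable K (R ⧸ m)
  let ψ : R ⧸ m →ₐ[K] SeparableClosure K := IsSepClosed.lift
  exact ⟨((ψ.comp (Ideal.Quotient.mkₐ K m)).restrictScalars A).comp Algebra.TensorProduct.includeRight⟩

/-- A Galois stable finite étale domain receiving the given finite étale algebra. -/
theorem exists_galois (A₁ : Type u) [CommRing A₁] [Algebra A A₁] [Module.Finite A A₁] [Algebra.Etale A A₁] [Nontrivial A₁] :
    ∃ (C : Type u) (_ : CommRing C) (_ : IsDomain C) (_ : Algebra A C) (_ : Algebra.Etale A C) (_ : Module.Finite A C)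
      (_ : Module.Free A C) (_ : Finite (C ≃ₐ[A] C)) (_ : A₁ →ₐ[A] C) (L : Type u) (_ : Field L) (_ : Algebra C L)
      (_ : IsFractionRing C L) (_ : Algebra A L) (_ : IsScalarTower A C L) (_ : Algebra K L) (_ : IsScalarTower A K L),
      ∀ z : L, (∀ σ : C ≃ₐ[A] C, lAut σ z = z) → z ∈ Set.range (algebraMap K L) := by
  classical
  let Ks := SeparableClosure K
  haveI := finite_algHom (A := A) A₁ Ks
  letI := Fintype.ofFinite (A₁ →ₐ[A] Ks)
  obtain ⟨φ₁⟩ := exists_algHom_sepClosure (A := A) K A₁
  let C : Subalgebra A Ks := Finset.univ.sup fun φ : A₁ →ₐ[A] Ks => φ.range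
  have hgen : ∀ φ : A₁ →ₐ[A] Ks, φ.range ≤ C := fun φ => Finset.le_sup (f := fun φ : A₁ →ₐ[A] Ks => φ.range) (Finset.mem_univ φ)
  obtain ⟨hCfin, hCun⟩ : Module.Finite A C ∧ Algebra.FormallyUnramified A C := by
    suffices h : ∀ t : Finset (A₁ →ₐ[A] Ks), Module.Finite A ↥(t.sup fun φ => φ.range) ∧
        Algebra.FormallyUnramified A ↥(t.sup fun φ => φ.range) from h _
    intro t
    induction t using Finset.induction with
    | empty =>
      rw [Finset.sup_empty]
      have hb : Function.Surjective (Algebra.ofId A (⊥ : Subalgebra A Ks)) := fun z => by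
        obtain ⟨a, ha⟩ := Algebra.mem_bot.1 z.2
        exact ⟨a, Subtype.ext ha⟩
      exact ⟨Module.Finite.of_surjective (Algebra.ofId A (⊥ : Subalgebra A Ks)).toLinearMap hb,
        Algebra.FormallyUnramified.of_surjective (Algebra.ofId A (⊥ : Subalgebra A Ks)) hb⟩
    | @insert φ t hφ ih =>
      obtain ⟨h1, h2⟩ := ih
      haveI : Module.Finite A φ.range := Module.Finite.of_surjective φ.rangeRestrict.toLinearMap φ.rangeRestrict_surjective
      haveI : Algebra.FormallyUnramified A φ.range :=
        Algebra.FormallyUnramified.of_surjective φ.rangeRestrict φ.rangeRestrict_surjective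
      rw [Finset.sup_insert]
      exact finite_unramified_sup φ.range _
  haveI := hCfin
  haveI := hCun
  have hinjA : Function.Injective (algebraMap A Ks) := by
    rw [IsScalarTower.algebraMap_eq A K Ks]
    exact (algebraMap K Ks).injective.comp (IsFractionRing.injective A K)
  haveI : Module.IsTorsionFree A C := .of_smul_eq_zero fun a z h => by
    have h1 : algebraMap A Ks a * (z : Ks) = 0 := by
      rw [← Algebra.smul_def, ← Subalgebra.coe_smul, h]; rfl
    rcases mul_eq_zero.1 h1 with h1 | h1
    · exact Or.inl (hinjA (by rw [h1, map_zero]))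
    · exact Or.inr (Subtype.ext h1)
  haveI : Module.Flat A C := Module.Flat.flat_iff_torsion_eq_bot_of_isBezout.2
    (Submodule.isTorsionFree_iff_torsion_eq_bot.1 inferInstance)
  haveI : Module.Free A C := Module.free_of_flat_of_isLocalRing
  haveI : Module.FinitePresentation A C := Module.finitePresentation_of_projective A C
  haveI : Algebra.FinitePresentation A C := (Module.FinitePresentation.iff_finitePresentation_of_finite A C).1 ‹_›
  haveI : Algebra.Etale A C := Algebra.Etale.of_formallyUnramified_of_flat
  haveI : Finite (C →ₐ[A] Ks) := finite_algHom C Ks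
  haveI : Finite (C ≃ₐ[A] C) := Finite.of_injective (fun σ => C.val.comp σ.toAlgHom) fun σ τ h =>
    AlgEquiv.ext fun z => Subtype.ext (DFunLike.congr_fun h z)
  have hCK : Function.Injective (algebraMap A C) := fun a b h => hinjA (congrArg Subtype.val h)
  let L := FractionRing C
  haveI : FaithfulSMul A C := (faithfulSMul_iff_algebraMap_injective A C).2 hCK
  letI : Algebra K L := (IsFractionRing.lift (A := A) (g := algebraMap A L)
    ((IsFractionRing.injective C L).comp hCK)).toAlgebra
  haveI : IsScalarTower A K L := .of_algebraMap_eq fun a => (IsFractionRing.lift_algebraMap _ a).symm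
  have hCι : Function.Injective (C.val : C →+* Ks) := Subtype.val_injective
  let ι : L →+* Ks := IsFractionRing.lift hCι
  have hι : ∀ c : C, ι (algebraMap C L c) = (c : Ks) := fun c => IsFractionRing.lift_algebraMap hCι c
  have hιK : ∀ x : K, ι (algebraMap K L x) = algebraMap K Ks x := by
    intro x
    obtain ⟨a, b, -, rfl⟩ := IsFractionRing.div_surjective (A := A) x
    simp only [map_div₀, ← IsScalarTower.algebraMap_apply A K L, IsScalarTower.algebraMap_apply A C L, hι,
      Subalgebra.coe_algebraMap, ← IsScalarTower.algebraMap_apply A K Ks]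
  refine ⟨C, inferInstance, inferInstance, inferInstance, inferInstance, inferInstance, inferInstance, inferInstance,
    φ₁.codRestrict C (fun a => hgen φ₁ ⟨a, rfl⟩), L, inferInstance, inferInstance, inferInstance, inferInstance,
    inferInstance, inferInstance, inferInstance, fun z hz => ?_⟩
  have hmap : ∀ s : Ks ≃ₐ[K] Ks, C.map (s.toAlgHom.restrictScalars A) ≤ C := fun s => by
    rw [Subalgebra.map_le]
    refine Finset.sup_le fun φ _ => ?_
    intro w hw
    obtain ⟨a, rfl⟩ := hw
    exact hgen ((s.toAlgHom.restrictScalars A).comp φ) ⟨a, rfl⟩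
  have hfixed : ∀ s : Ks ≃ₐ[K] Ks, s (ι z) = ι z := by
    intro s
    have hs : ∀ (s : Ks ≃ₐ[K] Ks) (c : C), s (c : Ks) ∈ C := fun s c => hmap s ⟨c, c.2, rfl⟩
    let σ : C ≃ₐ[A] C :=
      { toFun := fun c => ⟨s c, hs s c⟩
        invFun := fun c => ⟨s.symm c, hs s.symm c⟩
        left_inv := fun c => Subtype.ext (s.symm_apply_apply _)
        right_inv := fun c => Subtype.ext (s.apply_symm_apply _)
        map_mul' := fun a b => Subtype.ext (map_mul s _ _)
        map_add' := fun a b => Subtype.ext (map_add s _ _)
        commutes' := fun a => Subtype.ext ((s.toAlgHom.restrictScalars A).commutes a) }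
    have hnat : ∀ w : L, ι (lAut σ w) = s (ι w) := by
      intro w
      obtain ⟨a, b, -, rfl⟩ := IsFractionRing.div_surjective (A := C) w
      simp only [map_div₀, lAut_algebraMap, hι]
      rfl
    rw [← hnat, hz σ]
  obtain ⟨x, hx⟩ := (InfiniteGalois.mem_range_algebraMap_iff_fixed (ι z)).2 hfixed
  exact ⟨x, ι.injective (by rw [hιK, hx])⟩

end Groth.Agent.WApprox26.Val
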