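import Groth.Agent.WApprox26.Core
import Mathlib.RingTheory.DedekindDomain.AdicValuation
import Mathlib.NumberTheory.NumberField.Completion.FinitePlace

/-! The adic completion of a Dedekind domain at a prime, and its integers. -/

set_option linter.style.haveILetI false
set_option autoImplicit false
universe u

open IsDedekindDomain WithZero

noncomputable section

namespace Groth.Agent.WApprox26

variable {A : Type u} [CommRing A] [IsDedekindDomain A] (v : HeightOneSpectrum A) (K : Type u) [Field K] [Algebra A K]
  [IsFractionRing A K]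

theorem valued_algebraMap (a : A) :
    Valued.v ((algebraMap A (v.adicCompletionIntegers K) a : v.adicCompletionIntegers K) : v.adicCompletion K) =
      v.intValuation a := by
  rw [HeightOneSpectrum.algebraMap_adicCompletionIntegers_apply,
    HeightOneSpectrum.valuedAdicCompletion_eq_valuation', HeightOneSpectrum.valuation_of_algebraMap]

theorem le_exp_neg_one {z : ℤᵐ⁰} (h : z < 1) : z ≤ exp (-1 : ℤ) := by
  rcases eq_or_ne z 0 with rfl | hz
  · exact zero_le
  rw [← exp_log hz] at h ⊢
  rw [← exp_zero, exp_lt_exp] at h
  rw [exp_le_exp]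
  omega

/-- A uniformiser in the base, and approximation of integers of the completion. -/
theorem exists_uniformizer :
    ∃ ϖ : A, Irreducible (algebraMap A (v.adicCompletionIntegers K) ϖ) ∧
      ∀ u : v.adicCompletionIntegers K, ∃ a : A,
        algebraMap A (v.adicCompletionIntegers K) ϖ ∣ u - algebraMap A _ a := by
  obtain ⟨ϖ, hϖ⟩ := v.intValuation_exists_uniformizer
  set p := algebraMap A (v.adicCompletionIntegers K) ϖ
  have hp : Valued.v (p : v.adicCompletion K) = exp (-1 : ℤ) := (valued_algebraMap v K ϖ).trans hϖ
  have hdvd : ∀ x : v.adicCompletionIntegers K, Valued.v (x : v.adicCompletion K) < 1 → p ∣ x := fun x hx =>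
    Valuation.Integers.dvd_of_le (HeightOneSpectrum.adicCompletionIntegers.integers K v)
      ((le_exp_neg_one hx).trans hp.ge)
  have hlt : ∀ x : v.adicCompletionIntegers K, ¬ IsUnit x → Valued.v (x : v.adicCompletion K) < 1 := fun x hx =>
    lt_of_le_of_ne x.2 fun h => hx (HeightOneSpectrum.adicCompletionIntegers.isUnit_iff_valued_eq_one.2 h)
  refine ⟨ϖ, ⟨fun h => ?_, fun a b hab => ?_⟩, fun u => ?_⟩
  · have h' := HeightOneSpectrum.adicCompletionIntegers.isUnit_iff_valued_eq_one.1 h
    rw [← exp_zero] at h'
    exact absurd (exp_inj.1 (hp.symm.trans h')) (by omega)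
  · by_contra hh
    rw [not_or] at hh
    have h1 := mul_le_mul' (le_exp_neg_one (hlt a hh.1)) (le_exp_neg_one (hlt b hh.2))
    rw [← exp_add, ← map_mul, ← MulMemClass.coe_mul, ← hab] at h1
    exact absurd (exp_le_exp.1 (hp ▸ h1)) (by omega)
  · have hopen : {w : v.adicCompletion K | Valued.v.restrict (w - u) < 1} ∈ nhds (u : v.adicCompletion K) :=
      Valued.mem_nhds.2 ⟨1, subset_rfl⟩
    obtain ⟨U, hU, hUo, huU⟩ := mem_nhds_iff.1 hopen
    obtain ⟨k, hk⟩ := (HeightOneSpectrum.denseRange_algebraMap (K := K) v).exists_mem_open hUo ⟨_, huU⟩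
    have hk1 : Valued.v (algebraMap K (v.adicCompletion K) k - u) < 1 := by
      simpa [Valuation.restrict_lt_iff_lt_embedding] using hU hk
    have hvk : v.valuation K k ≤ 1 := by
      rw [← HeightOneSpectrum.valuedAdicCompletion_eq_valuation']
      calc Valued.v ((k : v.adicCompletion K))
          = Valued.v ((algebraMap K (v.adicCompletion K) k - u) + u) := by rw [sub_add_cancel]; rfl
        _ ≤ 1 := (Valuation.map_add _ _ _).trans (max_le hk1.le u.2)
    obtain ⟨a, ha⟩ := v.exists_valuation_sub_lt_of_integer hvk 1
    refine ⟨a, hdvd _ ?_⟩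
    rw [← Valuation.map_neg, AddSubgroupClass.coe_sub, neg_sub, HeightOneSpectrum.algebraMap_adicCompletionIntegers_apply]
    calc Valued.v (((algebraMap A K a : K) : v.adicCompletion K) - u)
        = Valued.v (algebraMap K (v.adicCompletion K) (algebraMap A K a - k) + (algebraMap K (v.adicCompletion K) k - u)) := by
          rw [map_sub (algebraMap K (v.adicCompletion K)), sub_add_sub_cancel]; rfl
      _ < 1 := Valuation.map_add_lt _ (by
          show Valued.v ((algebraMap A K a - k : K) : v.adicCompletion K) < 1
          rw [HeightOneSpectrum.valuedAdicCompletion_eq_valuation']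
          exact ha) hk1

end Groth.Agent.WApprox26
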