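import Groth.Agent.IsoTriv.GroupLikeBC
import Mathlib.RingTheory.Bialgebra.MonoidAlgebra
import Mathlib.RingTheory.TensorProduct.Maps

/-! Points of a form of a split torus over a domain, through their characters. -/

set_option linter.style.haveILetI false
set_option autoImplicit false
set_option linter.unusedSectionVars false
universe u

open TensorProduct Coalgebra Groth.Agent.IsoTriv

noncomputable section

namespace Groth.Agent.WApprox26

variable {A C : Type u} [CommRing A] [CommRing C] [IsDomain C] [Algebra A C] {H : Type u} [CommRing H] [Bialgebra A H]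
  {N : Type u} [CommGroup N] (e : C ⊗[A] H ≃ₐc[C] MonoidAlgebra C N)

/-- The group-like element of a character. -/
def gl (m : N) : C ⊗[A] H := e.symm (MonoidAlgebra.single m 1)

theorem apply_gl (m : N) : e (gl e m) = MonoidAlgebra.single m 1 := e.apply_symm_apply _

theorem isGroupLike_gl (m : N) : IsGroupLikeElem C (gl e m) :=
  (MonoidAlgebra.isGroupLikeElem_single_one (R := C) (A := C) m).map
    (e.symm : MonoidAlgebra C N →ₐc[C] C ⊗[A] H)

theorem gl_injective : Function.Injective (gl e) := fun m m' h => by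
  have := congrArg e h
  rw [apply_gl, apply_gl] at this
  exact (MonoidAlgebra.single_left_inj one_ne_zero).mp this

theorem gl_one : gl e 1 = 1 := by
  apply EquivLike.injective e
  rw [apply_gl, map_one]
  rfl

theorem gl_mul (m m' : N) : gl e (m * m') = gl e m * gl e m' := by
  apply EquivLike.injective e
  rw [map_mul, apply_gl, apply_gl, apply_gl, MonoidAlgebra.single_mul_single, mul_one]

theorem exists_act (σ : C ≃ₐ[A] C) (m : N) : ∃ m', gl e m' = push H σ.toAlgHom (gl e m) := by
  obtain ⟨m', hm'⟩ := exists_eq_single (fun t ht => IsIdempotentElem.iff_eq_zero_or_one.mp ht)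
    ((isGroupLike_push σ.toAlgHom (isGroupLike_gl e m)).map (e : C ⊗[A] H →ₐc[C] MonoidAlgebra C N))
  exact ⟨m', EquivLike.injective e (by rw [apply_gl]; exact hm'.symm)⟩

/-- The action of an automorphism on characters. -/
def act (σ : C ≃ₐ[A] C) (m : N) : N := (exists_act e σ m).choose

theorem gl_act (σ : C ≃ₐ[A] C) (m : N) : gl e (act e σ m) = push H σ.toAlgHom (gl e m) :=
  (exists_act e σ m).choose_spec

theorem act_mul (σ : C ≃ₐ[A] C) (m m' : N) : act e σ (m * m') = act e σ m * act e σ m' := gl_injective e <| by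
  rw [gl_mul, gl_act, gl_act, gl_act, gl_mul, map_mul]

theorem act_comp (σ τ : C ≃ₐ[A] C) (m : N) : act e (σ * τ) m = act e σ (act e τ m) := gl_injective e <| by
  rw [gl_act, gl_act, gl_act, push_push]
  rfl

theorem act_one (m : N) : act e 1 m = m := gl_injective e <| by
  rw [gl_act]
  show Algebra.TensorProduct.map (AlgHom.id A C) (AlgHom.id A H) _ = _
  rw [Algebra.TensorProduct.map_id]
  rfl

theorem act_surjective (σ : C ≃ₐ[A] C) : Function.Surjective (act e σ) := fun m =>
  ⟨act e σ⁻¹ m, by rw [← act_comp, mul_inv_cancel, act_one]⟩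

section Points

variable {R : Type u} [CommRing R] [Algebra A R] [Algebra C R] [IsScalarTower A C R]

/-- The extension of a point to `C ⊗ H`. -/
def ext (x : H →ₐ[A] R) : C ⊗[A] H →ₐ[C] R :=
  Algebra.TensorProduct.lift (Algebra.ofId C R) x fun _ _ => .all _ _

theorem ext_tmul (x : H →ₐ[A] R) (c : C) (h : H) : ext x (c ⊗ₜ[A] h) = algebraMap C R c * x h := by
  simp [ext, Algebra.ofId_apply]

/-- The characters of a point. -/
def chi (x : H →ₐ[A] R) : N →* R where
  toFun m := ext x (gl e m)
  map_one' := by rw [gl_one, map_one]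
  map_mul' m m' := by rw [gl_mul, map_mul]

theorem chi_apply (x : H →ₐ[A] R) (m : N) : chi e x m = ext x (gl e m) := rfl

theorem ext_eq (x : H →ₐ[A] R) :
    ext x = (MonoidAlgebra.lift C R N (chi e x)).comp (e : C ⊗[A] H →ₐ[C] MonoidAlgebra C N) := by
  have h : (ext x).comp (e.symm : MonoidAlgebra C N →ₐ[C] C ⊗[A] H) = MonoidAlgebra.lift C R N (chi e x) :=
    MonoidAlgebra.algHom_ext (fun m => by rw [MonoidAlgebra.lift_single, one_smul]; rfl) (Subsingleton.elim _ _)
  rw [← h]
  exact AlgHom.ext fun z => congrArg (ext x) (e.symm_apply_apply z).symm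

theorem chi_injective : Function.Injective (chi e : (H →ₐ[A] R) → N →* R) := fun x y h => by
  have h1 : (ext x : C ⊗[A] H →ₐ[C] R) = ext y := by rw [ext_eq e, ext_eq e, h]
  refine AlgHom.ext fun a => ?_
  have h2 := DFunLike.congr_fun h1 ((1 : C) ⊗ₜ[A] a)
  simpa [ext_tmul] using h2

/-- The point with given characters. -/
def ofChi (φ : N →* R) : H →ₐ[A] R :=
  (((MonoidAlgebra.lift C R N φ).comp (e : C ⊗[A] H →ₐ[C] MonoidAlgebra C N)).restrictScalars A).comp
    Algebra.TensorProduct.includeRight

theorem ofChi_apply (φ : N →* R) (h : H) : ofChi e φ h = MonoidAlgebra.lift C R N φ (e ((1 : C) ⊗ₜ[A] h)) := rfl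

theorem chi_ofChi (φ : N →* R) : chi e (ofChi e φ) = φ := by
  have h : ext (R := R) (ofChi e φ) = (MonoidAlgebra.lift C R N φ).comp (e : C ⊗[A] H →ₐ[C] MonoidAlgebra C N) :=
    Algebra.TensorProduct.ext (Subsingleton.elim _ _) (AlgHom.ext fun a => by
      simp [ext_tmul, ofChi_apply])
  refine MonoidHom.ext fun m => ?_
  rw [chi_apply, h, AlgHom.comp_apply]
  show MonoidAlgebra.lift C R N φ (e (gl e m)) = _
  rw [apply_gl, MonoidAlgebra.lift_single, one_smul]

/-- The product of two points. -/
def mulPt (x y : H →ₐ[A] R) : H →ₐ[A] R :=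
  (Algebra.TensorProduct.lift x y fun _ _ => .all _ _).comp (Bialgebra.comulAlgHom A H)

theorem chi_mulPt (x y : H →ₐ[A] R) : chi e (mulPt x y) = chi e x * chi e y := MonoidHom.ext fun m => by
  let Φ : (C ⊗[A] H) ⊗[C] (C ⊗[A] H) →ₐ[C] R :=
    Algebra.TensorProduct.lift (ext x) (ext y) fun _ _ => .all _ _
  have hc : ∀ z : C ⊗[A] H, ext (R := R) (mulPt x y) z = Φ (comul (R := C) z) := by
    intro z
    induction z using TensorProduct.induction_on with
    | zero => simp
    | tmul l a =>
      rw [ext_tmul, mulPt, AlgHom.comp_apply, Bialgebra.comulAlgHom_apply, TensorProduct.comul_tmul,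
        CommSemiring.comul_apply]
      induction comul (R := A) a using TensorProduct.induction_on with
      | zero => simp
      | tmul a b => simp [Φ, ext_tmul, mul_assoc, mul_left_comm]
      | add p q hp hq => simp only [tmul_add, map_add, mul_add, hp, hq]
    | add p q hp hq => simp only [map_add, hp, hq]
  rw [chi_apply, hc, (isGroupLike_gl e m).comul_eq_tmul_self, MonoidHom.mul_apply, chi_apply, chi_apply,
    Algebra.TensorProduct.lift_tmul]

variable {R' : Type u} [CommRing R'] [Algebra A R'] [Algebra C R'] [IsScalarTower A C R']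

theorem chi_comp_act (σ : C ≃ₐ[A] C) (f : R →ₐ[A] R') (hf : ∀ c, f (algebraMap C R c) = algebraMap C R' (σ c))
    (x : H →ₐ[A] R) (m : N) : chi e (f.comp x) (act e σ m) = f (chi e x m) := by
  rw [chi_apply, chi_apply, gl_act]
  induction gl e m using TensorProduct.induction_on with
  | zero => simp
  | tmul c h => simp [push_tmul, ext_tmul, hf]
  | add p q hp hq => simp only [map_add, hp, hq]

theorem chi_comp (f : R →ₐ[A] R') (hf : ∀ c, f (algebraMap C R c) = algebraMap C R' c) (x : H →ₐ[A] R) (m : N) :
    chi e (f.comp x) m = f (chi e x m) := by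
  have h := chi_comp_act e (1 : C ≃ₐ[A] C) f hf x m
  rwa [act_one] at h

end Points

end Groth.Agent.WApprox26
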