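import Mathlib.RingTheory.Etale.Basic
import Mathlib.RingTheory.Unramified.LocalRing
import Mathlib.RingTheory.DiscreteValuationRing.Basic
import Mathlib.RingTheory.DiscreteValuationRing.TFAE
import Mathlib.RingTheory.Filtration
import Mathlib.RingTheory.Smooth.Flat
import Mathlib.RingTheory.Flat.TorsionFree

/-! An unramified extension of a discrete valuation ring dominating a given finite étale algebra over a dense
subring with the same residue field. -/

set_option linter.style.haveILetI false
set_option autoImplicit false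
universe u

open TensorProduct IsLocalRing

noncomputable section

namespace Groth.Agent.WApprox26

theorem isDomain_of_maximalIdeal_eq_span {E : Type u} [CommRing E] [IsLocalRing E] [IsNoetherianRing E] (p : E)
    (hm : maximalIdeal E = Ideal.span {p}) (hnil : ∀ n : ℕ, p ^ n ≠ 0) :
    IsDomain E := by
  have hfac : ∀ z : E, z ≠ 0 → ∃ n : ℕ, ∃ u : Eˣ, z = p ^ n * u := by
    intro z hz
    have h0 : ∃ n : ℕ, z ∉ maximalIdeal E ^ n := by
      by_contra hall
      simp only [not_exists, not_not] at hall
      exact hz (by simpa [Ideal.iInf_pow_eq_bot_of_isLocalRing (maximalIdeal E) (maximalIdeal.isMaximal E).ne_top] using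
        (Submodule.mem_iInf _).2 hall : z = 0)
    classical
    obtain ⟨n, hn⟩ : ∃ n, Nat.find h0 = n + 1 := Nat.exists_eq_succ_of_ne_zero fun h => by
      have := Nat.find_spec h0
      rw [h, pow_zero, Ideal.one_eq_top] at this
      exact this trivial
    have h1 : z ∈ maximalIdeal E ^ n := not_not.1 (Nat.find_min h0 (by omega))
    have h2 : z ∉ maximalIdeal E ^ (n + 1) := hn ▸ Nat.find_spec h0
    rw [hm, Ideal.span_singleton_pow, Ideal.mem_span_singleton'] at h1 h2
    obtain ⟨w, rfl⟩ := h1
    have hw : IsUnit w := by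
      by_contra hw
      have h3 : w ∈ maximalIdeal E := (mem_maximalIdeal w).2 hw
      rw [hm, Ideal.mem_span_singleton'] at h3
      obtain ⟨v, rfl⟩ := h3
      exact h2 ⟨v, by ring⟩
    exact ⟨n, hw.unit, by rw [IsUnit.unit_spec, mul_comm]⟩
  refine @NoZeroDivisors.to_isDomain E _ _ ⟨fun {a b} hab => ?_⟩
  by_contra h
  simp only [not_or] at h
  obtain ⟨n, u, rfl⟩ := hfac a h.1
  obtain ⟨m, v, rfl⟩ := hfac b h.2
  refine hnil (n + m) ?_
  have : p ^ (n + m) * ((u * v : Eˣ) : E) = 0 := by rw [← hab, Units.val_mul, pow_add]; ring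
  exact (Units.mul_left_eq_zero _).1 this

section

variable (A C Ah : Type u) [CommRing A] [CommRing C] [Algebra A C] [Algebra.Etale A C] [Module.Finite A C]
  [Module.Free A C] [Nontrivial C] [CommRing Ah] [IsDomain Ah] [IsDiscreteValuationRing Ah] [Algebra A Ah]

theorem exists_localExt [Nontrivial A] (ϖ : A) (hϖ : Irreducible (algebraMap A Ah ϖ))
    (hres : ∀ u : Ah, ∃ a : A, algebraMap A Ah ϖ ∣ u - algebraMap A Ah a) :
    ∃ (E : Type u) (_ : CommRing E) (_ : IsDomain E) (_ : IsDiscreteValuationRing E) (_ : Algebra Ah E)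
      (_ : Algebra A E) (_ : IsScalarTower A Ah E) (j : C →ₐ[A] E),
      Irreducible (algebraMap A E ϖ) ∧ Function.Injective (algebraMap Ah E) ∧
      ∀ d : C ≃ₐ[A] C, (∀ c, IsUnit (j (d c)) ↔ IsUnit (j c)) → ∃ dE : E →ₐ[Ah] E, ∀ c, dE (j c) = j (d c) := by
  let R := Ah ⊗[A] C
  let p : Ah := algebraMap A Ah ϖ
  let ι : C →ₐ[A] R := Algebra.TensorProduct.includeRight
  obtain ⟨P, hPmax, hPp⟩ : ∃ P : Ideal R, P.IsMaximal ∧ algebraMap Ah R p ∈ P := by
    haveI : Nontrivial R := (Algebra.TensorProduct.basis Ah (Module.Free.chooseBasis A C)).repr.toEquiv.nontrivial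
    haveI : Module.FaithfullyFlat Ah R := inferInstance
    have hne : Ideal.map (algebraMap Ah R) (Ideal.span {p}) ≠ ⊤ := fun h => hϖ.not_isUnit (by
      have h2 := congrArg (Ideal.comap (algebraMap Ah R)) h
      rw [Ideal.comap_map_eq_self_of_faithfullyFlat, Ideal.comap_top, Ideal.span_singleton_eq_top] at h2
      exact h2)
    obtain ⟨P, hP, hle⟩ := Ideal.exists_le_maximal _ hne
    exact ⟨P, hP, hle (Ideal.mem_map_of_mem _ (Ideal.mem_span_singleton_self p))⟩
  haveI := hPmax
  haveI : Algebra.FiniteType Ah R := inferInstance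
  haveI : IsNoetherianRing R := Algebra.FiniteType.isNoetherianRing Ah R
  let E := Localization.AtPrime P
  haveI : IsNoetherianRing E := IsLocalization.isNoetherianRing P.primeCompl E inferInstance
  haveI : Algebra.FormallyUnramified R E := Algebra.FormallyUnramified.of_isLocalization P.primeCompl
  haveI : Algebra.FormallyUnramified Ah E := Algebra.FormallyUnramified.comp Ah R E
  haveI : Algebra.EssFiniteType R E := Algebra.EssFiniteType.of_isLocalization E P.primeCompl
  haveI : Algebra.EssFiniteType Ah E := Algebra.EssFiniteType.comp Ah R E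
  haveI : IsLocalHom (algebraMap Ah E) := ⟨fun a ha => by
    by_contra hna
    have h1 : a ∈ Ideal.span {p} := by
      rw [← hϖ.maximalIdeal_eq]; exact (mem_maximalIdeal a).2 hna
    obtain ⟨b, rfl⟩ := Ideal.mem_span_singleton'.1 h1
    rw [IsScalarTower.algebraMap_apply Ah R E, IsLocalization.AtPrime.isUnit_to_map_iff E P] at ha
    exact ha (by rw [map_mul]; exact Ideal.mul_mem_left _ _ hPp)⟩
  have hm : maximalIdeal E = Ideal.span {algebraMap Ah E p} := by
    rw [← Algebra.FormallyUnramified.map_maximalIdeal (R := Ah) (S := E), hϖ.maximalIdeal_eq, Ideal.map_span,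
      Set.image_singleton]
  haveI : Module.Flat R E := IsLocalization.flat E P.primeCompl
  haveI : Module.Flat Ah E := Module.Flat.trans Ah R E
  haveI : Module.IsTorsionFree Ah E := inferInstance
  have hinj : Function.Injective (algebraMap Ah E) := fun a b h => by
    by_contra hab
    have h1 : (a - b) • (1 : E) = 0 := by rw [Algebra.smul_def, mul_one, map_sub, h, sub_self]
    exact one_ne_zero ((smul_eq_zero.1 h1).resolve_left (sub_ne_zero.2 hab))
  have hnil : ∀ n : ℕ, algebraMap Ah E p ^ n ≠ 0 := fun n h => by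
    rw [← map_pow, ← map_zero (algebraMap Ah E)] at h
    exact pow_ne_zero n hϖ.ne_zero (hinj h)
  haveI : IsDomain E := isDomain_of_maximalIdeal_eq_span _ hm hnil
  haveI : (maximalIdeal E).IsPrincipal := ⟨⟨_, hm⟩⟩
  have hne : maximalIdeal E ≠ ⊥ := by
    rw [hm, Ne, Ideal.span_singleton_eq_bot]
    simpa using hnil 1
  haveI : IsDiscreteValuationRing E :=
    (((IsDiscreteValuationRing.TFAE E (fun hf => hne (IsLocalRing.isField_iff_maximalIdeal_eq.1 hf))).out 0 4 :
      IsDiscreteValuationRing E ↔ (maximalIdeal E).IsPrincipal)).2 inferInstance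
  have hirr : Irreducible (algebraMap Ah E p) := (IsDiscreteValuationRing.irreducible_iff_uniformizer _).2 hm
  have hspan : Ideal.span {algebraMap Ah R p} ≤ P := (Ideal.span_singleton_le_iff_mem _).2 hPp
  have hmod : ∀ z : R, ∃ c : C, z - ι c ∈ Ideal.span {algebraMap Ah R p} := by
    intro z
    induction z using TensorProduct.induction_on with
    | zero => exact ⟨0, by simp⟩
    | tmul u c =>
      obtain ⟨a, q, hq⟩ := hres u
      refine ⟨a • c, ?_⟩
      have h1 : u ⊗ₜ[A] c - ι (a • c) = algebraMap Ah R p * (q ⊗ₜ[A] c) := by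
        have h2 : ι (a • c) = algebraMap A Ah a ⊗ₜ[A] c := by
          show (1 : Ah) ⊗ₜ[A] (a • c) = _
          rw [← TensorProduct.smul_tmul, Algebra.smul_def, mul_one]
        rw [h2, ← TensorProduct.sub_tmul, hq, Algebra.TensorProduct.algebraMap_apply,
          Algebra.TensorProduct.tmul_mul_tmul, one_mul]
        rfl
      rw [h1]
      exact Ideal.mul_mem_right _ _ (Ideal.mem_span_singleton_self _)
    | add x y hx hy =>
      obtain ⟨c, hc⟩ := hx
      obtain ⟨c', hc'⟩ := hy
      exact ⟨c + c', by rw [map_add, add_sub_add_comm]; exact add_mem hc hc'⟩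
  refine ⟨E, inferInstance, inferInstance, inferInstance, inferInstance, inferInstance, inferInstance,
    (IsScalarTower.toAlgHom A R E).comp ι, ?_, hinj, fun d hd => ?_⟩
  · rwa [IsScalarTower.algebraMap_apply A Ah E]
  let ψ : R →ₐ[Ah] R := Algebra.TensorProduct.map (AlgHom.id Ah Ah) d.toAlgHom
  have hι : ∀ c, IsUnit ((IsScalarTower.toAlgHom A R E).comp ι c) ↔ ι c ∉ P := fun c =>
    IsLocalization.AtPrime.isUnit_to_map_iff E P (ι c)
  have hcomap : P = P.comap ψ.toRingHom := by
    ext z
    obtain ⟨c, hc⟩ := hmod z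
    have hd' : ι (d c) ∈ P ↔ ι c ∈ P := by
      have h := hd c
      rw [hι, hι, not_iff_not] at h
      exact h
    have hψ : ψ (z - ι c) ∈ P := by
      obtain ⟨q, hq⟩ := Ideal.mem_span_singleton'.1 hc
      rw [← hq, map_mul, ψ.commutes]
      exact Ideal.mul_mem_left _ _ hPp
    have hz : z ∈ P ↔ ι c ∈ P := ⟨fun h => by simpa using sub_mem h (hspan hc), fun h => by simpa using add_mem (hspan hc) h⟩
    rw [Ideal.mem_comap, hz, ← hd', ← show ψ (ι c) = ι (d c) from rfl]
    rw [map_sub] at hψ
    exact ⟨fun h => by simpa using add_mem hψ h, fun h => by simpa using sub_mem h hψ⟩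
  let f : E →+* E := Localization.localRingHom P P ψ.toRingHom hcomap
  refine ⟨{ f with commutes' := fun a => ?_ }, fun c => ?_⟩
  · show f (algebraMap Ah E a) = _
    rw [IsScalarTower.algebraMap_apply Ah R E, Localization.localRingHom_to_map]
    congr 1
    exact ψ.commutes a
  · show f (algebraMap R E (ι c)) = algebraMap R E (ι (d c))
    rw [Localization.localRingHom_to_map]
    rfl

end

end Groth.Agent.WApprox26
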