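import Groth.Agent.WApprox26.Char
import Groth.Agent.WApprox26.Local
import Mathlib.RingTheory.Localization.FractionRing
import Mathlib.RingTheory.Ideal.Maps
import Mathlib.GroupTheory.QuotientGroup.Basic

/-! Weak approximation at an unramified place for tori split by a finite étale Galois-stable algebra. -/

set_option linter.style.haveILetI false
set_option autoImplicit false
set_option maxHeartbeats 1600000
set_option synthInstance.maxHeartbeats 200000
universe u

open TensorProduct

noncomputable section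

namespace Groth.Agent.WApprox26

section Ord

variable {E F : Type u} [CommRing E] [IsDomain E] [IsDiscreteValuationRing E] [Field F] [Algebra E F]
  [IsFractionRing E F] (p : E)

/-- `z` has order `n`. -/
def IsOrd (z : F) (n : ℤ) : Prop := ∃ u : Eˣ, z = algebraMap E F p ^ n * algebraMap E F u

variable {p} (hp : Irreducible p)
include hp

theorem exists_isOrd {z : F} (hz : z ≠ 0) : ∃ n, IsOrd p z n := by
  obtain ⟨n, u, rfl⟩ := IsDiscreteValuationRing.exists_units_eq_smul_zpow_of_irreducible (K := F) hp hz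
  exact ⟨n, u, by rw [Units.smul_def, Algebra.smul_def, mul_comm]⟩

theorem algebraMap_ne_zero : algebraMap E F p ≠ 0 := by
  simpa using hp.ne_zero

theorem isOrd_ne_zero {z : F} {n : ℤ} (h : IsOrd p z n) : z ≠ 0 := by
  obtain ⟨u, rfl⟩ := h
  exact mul_ne_zero (zpow_ne_zero _ (algebraMap_ne_zero hp)) ((u.isUnit.map (algebraMap E F)).ne_zero)

theorem isOrd_mul {z z' : F} {n n' : ℤ} (h : IsOrd p z n) (h' : IsOrd p z' n') : IsOrd p (z * z') (n + n') := by
  obtain ⟨u, rfl⟩ := h
  obtain ⟨u', rfl⟩ := h'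
  refine ⟨u * u', ?_⟩
  rw [zpow_add₀ (algebraMap_ne_zero hp), Units.val_mul, map_mul]
  ring

theorem isOrd_unique {z : F} {n n' : ℤ} (h : IsOrd p z n) (h' : IsOrd p z n') : n = n' := by
  wlog hle : n ≤ n'
  · exact (this hp h' h (le_of_not_ge hle)).symm
  obtain ⟨u, rfl⟩ := h
  obtain ⟨u', h'⟩ := h'
  obtain ⟨k, rfl⟩ : ∃ k : ℕ, n' = n + k := ⟨(n' - n).toNat, by omega⟩
  rw [zpow_add₀ (algebraMap_ne_zero hp), zpow_natCast, mul_assoc, ← map_pow, ← map_mul] at h'
  have h2 := IsFractionRing.injective E F (mul_left_cancel₀ (zpow_ne_zero _ (algebraMap_ne_zero hp)) h')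
  have h3 := IsDiscreteValuationRing.unit_mul_pow_congr_pow hp hp u u' 0 k (by rw [pow_zero, mul_one, h2, mul_comm])
  omega

theorem isOrd_zpow {z : F} {n : ℤ} (h : IsOrd p z n) (k : ℤ) : IsOrd p (z ^ k) (n * k) := by
  obtain ⟨u, rfl⟩ := h
  refine ⟨u ^ k, ?_⟩
  rw [mul_zpow, ← zpow_mul]
  congr 1
  exact (map_zpow ((Units.coeHom F).comp (Units.map (algebraMap E F : E →* F))) u k).symm.trans rfl

omit [IsDiscreteValuationRing E] [IsFractionRing E F] hp in
theorem isOrd_zero_iff {z : F} : IsOrd p z 0 ↔ ∃ u : Eˣ, z = algebraMap E F u := by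
  simp [IsOrd]

omit hp in
theorem isOrd_one : IsOrd (F := F) p 1 0 := ⟨1, by simp⟩

theorem isOrd_prod {ι : Type*} (s : Finset ι) (z : ι → F) (n : ι → ℤ) (h : ∀ i ∈ s, IsOrd p (z i) (n i)) :
    IsOrd p (∏ i ∈ s, z i) (∑ i ∈ s, n i) := by
  classical
  induction s using Finset.induction with
  | empty => simpa using isOrd_one
  | @insert a s ha ih =>
    rw [Finset.prod_insert ha, Finset.sum_insert ha]
    exact isOrd_mul hp (h a (Finset.mem_insert_self a s)) (ih fun i hi => h i (Finset.mem_insert_of_mem hi))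

end Ord

variable {A K C L Ah Kh : Type u} [CommRing A] [IsDomain A] [Field K] [Algebra A K] [IsFractionRing A K]
  [CommRing C] [IsDomain C] [Algebra A C] [Algebra.Etale A C] [Module.Finite A C] [Module.Free A C]
  [Finite (C ≃ₐ[A] C)]
  [Field L] [Algebra C L] [IsFractionRing C L] [Algebra A L] [IsScalarTower A C L] [Algebra K L] [IsScalarTower A K L]
  [CommRing Ah] [IsDomain Ah] [IsDiscreteValuationRing Ah] [Algebra A Ah]
  [Field Kh] [Algebra Ah Kh] [IsFractionRing Ah Kh] [Algebra A Kh] [IsScalarTower A Ah Kh] [Algebra K Kh]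
  [IsScalarTower A K Kh]
  {H : Type u} [CommRing H] [Bialgebra A H] {N : Type u} [CommGroup N]

/-- An automorphism of `C` on its fraction field. -/
def lAut (σ : C ≃ₐ[A] C) : L →ₐ[A] L :=
  { (IsFractionRing.lift (g := (algebraMap C L).comp σ.toAlgHom.toRingHom)
      ((IsFractionRing.injective C L).comp σ.injective) : L →+* L) with
    commutes' := fun a => by
      show (IsFractionRing.lift (g := (algebraMap C L).comp σ.toAlgHom.toRingHom)
        ((IsFractionRing.injective C L).comp σ.injective) : L →+* L) (algebraMap A L a) = _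
      rw [IsScalarTower.algebraMap_apply A C L, IsFractionRing.lift_algebraMap]
      exact congrArg (algebraMap C L) (σ.commutes a) }

theorem lAut_algebraMap (σ : C ≃ₐ[A] C) (c : C) : lAut σ (algebraMap C L c) = algebraMap C L (σ c) :=
  IsFractionRing.lift_algebraMap (g := (algebraMap C L).comp σ.toAlgHom.toRingHom)
    ((IsFractionRing.injective C L).comp σ.injective) c

theorem lAut_mul (σ τ : C ≃ₐ[A] C) (z : L) : lAut (L := L) (σ * τ) z = lAut σ (lAut τ z) := by
  obtain ⟨a, b, -, rfl⟩ := IsFractionRing.div_surjective (A := C) z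
  simp only [map_div₀, lAut_algebraMap]
  rfl

theorem exists_points (e : C ⊗[A] H ≃ₐc[C] MonoidAlgebra C N)
    (hfix : ∀ z : L, (∀ σ : C ≃ₐ[A] C, lAut σ z = z) → z ∈ Set.range (algebraMap K L))
    (ϖ : A) (hϖ : Irreducible (algebraMap A Ah ϖ))
    (hres : ∀ u : Ah, ∃ a : A, algebraMap A Ah ϖ ∣ u - algebraMap A Ah a)
    (x : H →ₐ[A] Kh) :
    ∃ (a : H →ₐ[A] Ah) (b : H →ₐ[A] K),
      x = mulPt ((IsScalarTower.toAlgHom A Ah Kh).comp a) ((IsScalarTower.toAlgHom A K Kh).comp b) := by
  classical
  obtain ⟨E, _, _, _, _, _, _, j, hirr, hinjE, hdec⟩ := exists_localExt A C Ah ϖ hϖ hres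
  let F := FractionRing E
  set p : E := algebraMap A E ϖ with hpdef
  letI : Algebra C E := j.toRingHom.toAlgebra
  haveI : IsScalarTower A C E := .of_algebraMap_eq fun a => (j.commutes a).symm
  have hjE : ∀ c, algebraMap C E c = j c := fun c => rfl
  have hCi : Function.Injective (algebraMap C F) := by
    haveI : Algebra.IsIntegral A C := Algebra.IsIntegral.of_finite A C
    have hA : Function.Injective (algebraMap A F) := by
      intro a b hab
      rw [IsScalarTower.algebraMap_apply A Ah F, IsScalarTower.algebraMap_apply A Ah F] at hab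
      have h1 : algebraMap A Ah a = algebraMap A Ah b := by
        have h := hab
        rw [IsScalarTower.algebraMap_apply Ah E F, IsScalarTower.algebraMap_apply Ah E F] at h
        exact hinjE (IsFractionRing.injective E F h)
      have h2 : algebraMap A Kh a = algebraMap A Kh b := by
        rw [IsScalarTower.algebraMap_apply A Ah Kh, h1, ← IsScalarTower.algebraMap_apply]
      rw [IsScalarTower.algebraMap_apply A K Kh, IsScalarTower.algebraMap_apply A K Kh] at h2
      exact IsFractionRing.injective A K ((algebraMap K Kh).injective h2)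
    rw [RingHom.injective_iff_ker_eq_bot]
    refine Ideal.eq_bot_of_comap_eq_bot (R := A) ?_
    rw [RingHom.comap_ker, ← IsScalarTower.algebraMap_eq, ← RingHom.injective_iff_ker_eq_bot]
    exact hA
  have hAhF : Function.Injective (algebraMap Ah F) := by
    rw [IsScalarTower.algebraMap_eq Ah E F]
    exact (IsFractionRing.injective E F).comp hinjE
  let ιK : Kh →ₐ[A] F :=
    { (IsFractionRing.lift hAhF : Kh →+* F) with
      commutes' := fun a => by
        show IsFractionRing.lift hAhF (algebraMap A Kh a) = _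
        rw [IsScalarTower.algebraMap_apply A Ah Kh, IsFractionRing.lift_algebraMap, ← IsScalarTower.algebraMap_apply] }
  have hιK : ∀ w, ιK (algebraMap Ah Kh w) = algebraMap Ah F w := fun w => IsFractionRing.lift_algebraMap hAhF w
  let ιL : L →ₐ[A] F :=
    { (IsFractionRing.lift hCi : L →+* F) with
      commutes' := fun a => by
        show IsFractionRing.lift hCi (algebraMap A L a) = _
        rw [IsScalarTower.algebraMap_apply A C L, IsFractionRing.lift_algebraMap, ← IsScalarTower.algebraMap_apply] }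
  have hιL : ∀ c, ιL (algebraMap C L c) = algebraMap C F c := fun c => IsFractionRing.lift_algebraMap hCi c
  -- orders of the coordinates of the point
  set φ₀ := chi e (R := F) (ιK.comp x) with hφ₀
  have hne : ∀ m, φ₀ m ≠ 0 := fun m => ((Group.isUnit m).map φ₀).ne_zero
  choose f hf using fun m => exists_isOrd hirr (hne m)
  have hfmul : ∀ m m', f (m * m') = f m + f m' := fun m m' =>
    isOrd_unique hirr (hf (m * m')) (by rw [map_mul]; exact isOrd_mul hirr (hf m) (hf m'))
  -- the decomposition group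
  let D : Subgroup (C ≃ₐ[A] C) :=
    { carrier := {d | ∀ c, IsUnit (j (d c)) ↔ IsUnit (j c)}
      one_mem' := fun c => Iff.rfl
      mul_mem' := fun {σ τ} hσ hτ c => (hσ (τ c)).trans (hτ c)
      inv_mem' := fun {σ} hσ c => by
        have h := hσ (σ⁻¹ c)
        rw [← AlgEquiv.mul_apply, mul_inv_cancel, AlgEquiv.one_apply] at h
        exact h.symm }
  have hfD : ∀ d ∈ D, ∀ m, f (act e d m) = f m := by
    intro d hd m
    obtain ⟨dE, hdE⟩ := hdec d hd
    have hker : Function.Injective dE := by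
      rw [injective_iff_map_eq_zero]
      intro z hz
      by_contra hz0
      obtain ⟨n, u, rfl⟩ := IsDiscreteValuationRing.eq_unit_mul_pow_irreducible hz0 hirr
      rw [map_mul, map_pow, hpdef, IsScalarTower.algebraMap_apply A Ah E, dE.commutes,
        mul_eq_zero] at hz
      rcases hz with hz | hz
      · exact (u.isUnit.map dE).ne_zero hz
      · rw [← IsScalarTower.algebraMap_apply] at hz
        exact pow_ne_zero n hirr.ne_zero hz
    have hEF : Function.Injective ((algebraMap E F).comp dE.toRingHom) := (IsFractionRing.injective E F).comp hker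
    let dF : F →ₐ[A] F :=
      { (IsFractionRing.lift hEF : F →+* F) with
        commutes' := fun a => by
          show IsFractionRing.lift hEF (algebraMap A F a) = _
          rw [IsScalarTower.algebraMap_apply A E F, IsFractionRing.lift_algebraMap]
          show algebraMap E F (dE (algebraMap A E a)) = _
          rw [IsScalarTower.algebraMap_apply A Ah E, dE.commutes] }
    have hdF : ∀ z, dF (algebraMap E F z) = algebraMap E F (dE z) := fun z => IsFractionRing.lift_algebraMap hEF z
    have hfix' : dF.comp ιK = ιK := by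
      refine AlgHom.ext fun z => ?_
      obtain ⟨a, b, -, rfl⟩ := IsFractionRing.div_surjective (A := Ah) z
      simp only [AlgHom.comp_apply, map_div₀, hιK, IsScalarTower.algebraMap_apply Ah E F, hdF, dE.commutes]
    have hC : ∀ c, dF (algebraMap C F c) = algebraMap C F (d c) := fun c => by
      rw [IsScalarTower.algebraMap_apply C E F, IsScalarTower.algebraMap_apply C E F, hdF, hjE, hjE, hdE]
    have h1 : φ₀ (act e d m) = dF (φ₀ m) := by
      have h := chi_comp_act e d dF hC (ιK.comp x) m
      rwa [← AlgHom.comp_assoc, hfix'] at h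
    refine isOrd_unique hirr (hf _) ?_
    obtain ⟨u, hu⟩ := hf m
    refine ⟨Units.map dE.toRingHom.toMonoidHom u, ?_⟩
    rw [h1, hu, map_mul, map_zpow₀, hdF, hdF]
    congr 3
    rw [hpdef, IsScalarTower.algebraMap_apply A Ah E, dE.commutes]
  letI : Fintype D := Fintype.ofFinite _
  letI : Fintype ((C ≃ₐ[A] C) ⧸ D) := Fintype.ofFinite _
  -- an element of order one at the place and zero at its conjugates
  obtain ⟨a₀, ha₀D, ha₀p, ha₀n⟩ : ∃ a₀ : C, (∀ d ∈ D, d a₀ = a₀) ∧ IsOrd (F := F) p (algebraMap C F a₀) 1 ∧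
      ∀ σ : C ≃ₐ[A] C, σ ∉ D → IsUnit (j (σ a₀)) := by
    set P0 := (IsLocalRing.maximalIdeal E).comap j.toRingHom with hP0
    have hP0mem : ∀ c, c ∈ P0 ↔ ¬ IsUnit (j c) := fun c => IsLocalRing.mem_maximalIdeal _
    have hϖC : algebraMap A C ϖ ∈ P0 := (hP0mem _).2 (by rw [j.commutes]; exact hirr.not_isUnit)
    let S : Finset (C ≃ₐ[A] C) := (Set.toFinite {σ : C ≃ₐ[A] C | σ ∉ D}).toFinset
    haveI : Algebra.IsIntegral A C := Algebra.IsIntegral.of_finite A C
    haveI hP0prime : P0.IsPrime := Ideal.comap_isPrime _ _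
    haveI : P0.IsMaximal := by
      have hAmax : (Ideal.comap (algebraMap A C) P0).IsMaximal := by
        have hsur : Function.Surjective ((IsLocalRing.residue Ah).comp (algebraMap A Ah)) := fun w => by
          obtain ⟨u, rfl⟩ := IsLocalRing.residue_surjective w
          obtain ⟨a, q, hq⟩ := hres u
          refine ⟨a, ?_⟩
          show IsLocalRing.residue Ah _ = _
          rw [eq_comm, ← sub_eq_zero, ← map_sub, hq, map_mul,
            (IsLocalRing.residue_eq_zero_iff _).2 (by rw [IsLocalRing.mem_maximalIdeal]; exact hϖ.not_isUnit), zero_mul]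
        have heq : Ideal.comap (algebraMap A C) P0 =
            RingHom.ker ((IsLocalRing.residue Ah).comp (algebraMap A Ah)) := by
          ext a
          rw [Ideal.mem_comap, hP0mem, RingHom.mem_ker, RingHom.comp_apply, IsLocalRing.residue_eq_zero_iff,
            IsLocalRing.mem_maximalIdeal, j.commutes, IsScalarTower.algebraMap_apply A Ah E, mem_nonunits_iff, not_iff_not]
          refine ⟨fun h => ?_, fun h => h.map _⟩
          by_contra hna
          have h1 : algebraMap A Ah a ∈ IsLocalRing.maximalIdeal Ah := (IsLocalRing.mem_maximalIdeal _).2 hna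
          rw [hϖ.maximalIdeal_eq, Ideal.mem_span_singleton'] at h1
          obtain ⟨w, hw⟩ := h1
          rw [← hw, map_mul, ← IsScalarTower.algebraMap_apply] at h
          exact hirr.not_isUnit (isUnit_of_mul_isUnit_right h)
        rw [heq]
        exact RingHom.ker_isMaximal_of_surjective _ hsur
      exact Ideal.isMaximal_of_isIntegral_of_isMaximal_comap P0 hAmax
    -- conjugates of the place
    let Q : (C ≃ₐ[A] C) → Ideal C := fun σ => P0.comap σ.toAlgHom.toRingHom
    have hQmax : ∀ σ, (Q σ).IsMaximal := fun σ => Ideal.comap_isMaximal_of_surjective _ σ.surjective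
    have hQne : ∀ σ ∉ D, Q σ ≠ P0 := fun σ hσ h => hσ fun c => by
      have h1 := SetLike.ext_iff.1 h c
      rw [Ideal.mem_comap, hP0mem, hP0mem, not_iff_not] at h1
      exact h1
    have hcop : P0 ^ 2 ⊔ ∏ σ ∈ S, Q σ = ⊤ := by
      refine Ideal.sup_prod_eq_top fun σ hσ => ?_
      have hσ' : σ ∉ D := by simpa [S] using hσ
      rw [Ideal.pow_sup_eq_top]
      exact (Ideal.IsMaximal.coprime_of_ne inferInstance (hQmax σ) (hQne σ hσ').symm)
    obtain ⟨y, hy, e₀, he₀, hye⟩ := Submodule.mem_sup.1 ((Ideal.eq_top_iff_one _).1 hcop)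
    let e₁ : C := ∏ d : D, (d : C ≃ₐ[A] C) e₀
    have he₁D : ∀ d ∈ D, d e₁ = e₁ := fun d hd => by
      rw [map_prod]
      exact Fintype.prod_equiv (Equiv.mulLeft (⟨d, hd⟩ : D)) _ _ fun τ => rfl
    have hsq : ∀ d ∈ D, ∀ c ∈ P0 ^ 2, d c ∈ P0 ^ 2 := fun d hd c hc => by
      have h1 : P0.map d.toAlgHom.toRingHom ≤ P0 := Ideal.map_le_iff_le_comap.2 fun c hc => by
        rw [Ideal.mem_comap]
        exact (hP0mem _).2 fun h => (hP0mem c).1 hc ((hd c).1 h)
      have h2 := Ideal.mem_map_of_mem d.toAlgHom.toRingHom hc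
      rw [Ideal.map_pow] at h2
      exact Ideal.pow_right_mono h1 2 h2
    have he₁P : e₁ - 1 ∈ P0 ^ 2 := by
      rw [← Ideal.Quotient.eq, map_one, map_prod]
      refine Finset.prod_eq_one fun d _ => ?_
      rw [← map_one (Ideal.Quotient.mk _), Ideal.Quotient.eq, show e₀ = 1 - y by rw [← hye]; ring, map_sub, map_one,
        sub_sub_cancel_left, neg_mem_iff]
      exact hsq d d.2 y hy
    have he₁Q : ∀ σ ∉ D, σ e₁ ∈ P0 := fun σ hσ => by
      have h1 : e₀ ∈ Q σ := Ideal.prod_le_inf.trans (Finset.inf_le (by simpa [S] using hσ)) he₀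
      rw [map_prod, ← Finset.mul_prod_erase _ _ (Finset.mem_univ (1 : D))]
      exact Ideal.mul_mem_right _ _ h1
    refine ⟨algebraMap A C ϖ * e₁ + (1 - e₁), fun d hd => by
      rw [map_add, map_mul, map_sub, map_one, AlgEquiv.commutes, he₁D d hd], ?_, fun σ hσ => ?_⟩
    · have he₁u : IsUnit (j e₁) := by
        by_contra hnu
        have h1 : (1 : C) ∈ P0 := by
          simpa using sub_mem ((hP0mem _).2 hnu) (Ideal.pow_le_self two_ne_zero he₁P)
        exact hP0prime.ne_top ((Ideal.eq_top_iff_one _).2 h1)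
      have h2 : j (1 - e₁) ∈ Ideal.span {p ^ 2} := by
        have h := Ideal.mem_map_of_mem j.toRingHom (neg_mem he₁P)
        rw [Ideal.map_pow] at h
        have h3 := Ideal.pow_right_mono (Ideal.map_le_iff_le_comap.2 (le_refl P0)) 2 h
        rw [hirr.maximalIdeal_eq, Ideal.span_singleton_pow, neg_sub] at h3
        exact h3
      obtain ⟨w, hw⟩ := Ideal.mem_span_singleton'.1 h2
      have hu : IsUnit (j e₁ + w * p) := by
        by_contra hnu
        have h4 : j e₁ + w * p ∈ IsLocalRing.maximalIdeal E := (IsLocalRing.mem_maximalIdeal _).2 hnu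
        have h5 : w * p ∈ IsLocalRing.maximalIdeal E := by
          rw [hirr.maximalIdeal_eq]; exact Ideal.mul_mem_left _ _ (Ideal.mem_span_singleton_self p)
        exact (IsLocalRing.mem_maximalIdeal _).1 (by simpa using sub_mem h4 h5) he₁u
      refine ⟨hu.unit, ?_⟩
      rw [IsScalarTower.algebraMap_apply C E F, hjE, zpow_one, IsUnit.unit_spec, map_add, map_mul, j.commutes, ← hw,
        ← map_mul]
      congr 1
      ring
    · by_contra hnu
      have h1 : σ (algebraMap A C ϖ * e₁ + (1 - e₁)) ∈ P0 := (hP0mem _).2 hnu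
      rw [map_add, map_mul, map_sub, map_one] at h1
      have h2 := he₁Q σ hσ
      have h3 : (1 : C) ∈ P0 := by
        have := sub_mem (add_mem h1 h2) (Ideal.mul_mem_left _ (σ (algebraMap A C ϖ)) h2)
        convert this using 1
        ring
      exact hP0prime.ne_top ((Ideal.eq_top_iff_one _).2 h3)
  have ha₀0 : algebraMap C L a₀ ≠ 0 := fun h => by
    have h0 : a₀ = 0 := IsFractionRing.injective C L (h.trans (map_zero _).symm)
    exact isOrd_ne_zero hirr ha₀p (by rw [h0, map_zero])
  -- rational points with prescribed orders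
  let ψ : (N → ℤ) → N → L := fun g m =>
    ∏ q : (C ≃ₐ[A] C) ⧸ D, lAut q.out (algebraMap C L a₀ ^ g (act e (q.out)⁻¹ m))
  have main : ∀ g : N → ℤ, (∀ m m', g (m * m') = g m + g m') → (∀ d ∈ D, ∀ m, g (act e d m) = g m) →
      ∃ (b : H →ₐ[A] K), ∀ m, chi e (R := F) (ιK.comp ((IsScalarTower.toAlgHom A K Kh).comp b)) m = ιL (ψ g m) ∧
        IsOrd p (ιL (ψ g m)) (g m) := by
    intro g hgm hgD
    have hg1 : g 1 = 0 := by have h := hgm 1 1; rw [one_mul] at h; omega
    let φp : N →* L :=
      { toFun := fun m => algebraMap C L a₀ ^ g m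
        map_one' := by rw [hg1, zpow_zero]
        map_mul' := fun m m' => by rw [hgm, zpow_add₀ ha₀0] }
    let pt := ofChi e (R := L) φp
    let G : (C ≃ₐ[A] C) → N →* L := fun σ => chi e ((lAut σ).comp pt)
    have hGnat : ∀ τ σ m, G (τ * σ) (act e τ m) = lAut τ (G σ m) := fun τ σ m => by
      have h : (lAut (τ * σ)).comp pt = (lAut τ).comp ((lAut σ).comp pt) :=
        AlgHom.ext fun z => lAut_mul (L := L) τ σ (pt z)
      show chi e ((lAut (τ * σ)).comp pt) _ = _
      rw [h]
      exact chi_comp_act e τ (lAut τ) (lAut_algebraMap τ) _ m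
    have hGpt : ∀ σ m, G σ (act e σ m) = lAut σ (algebraMap C L a₀ ^ g m) := fun σ m => by
      rw [chi_comp_act e σ (lAut σ) (lAut_algebraMap σ), chi_ofChi]
      rfl
    have hGD : ∀ d ∈ D, ∀ σ, G (σ * d) = G σ := fun d hd σ => by
      have h : (lAut (L := L) d).comp pt = pt := by
        refine chi_injective e (MonoidHom.ext fun m => ?_)
        obtain ⟨m, rfl⟩ := act_surjective e d m
        rw [chi_comp_act e d (lAut d) (lAut_algebraMap d), chi_ofChi]
        show lAut d (algebraMap C L a₀ ^ g m) = algebraMap C L a₀ ^ g (act e d m)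
        rw [map_zpow₀, lAut_algebraMap, ha₀D d hd, hgD d hd m]
      show chi e ((lAut (σ * d)).comp pt) = chi e ((lAut σ).comp pt)
      rw [show (lAut (L := L) (σ * d)).comp pt = (lAut σ).comp ((lAut d).comp pt) from
        AlgHom.ext fun z => lAut_mul (L := L) σ d (pt z), h]
    let φ : N →* L := ∏ q : (C ≃ₐ[A] C) ⧸ D, G q.out
    have hφ : ∀ m, φ m = ∏ q : (C ≃ₐ[A] C) ⧸ D, G q.out m := fun m => MonoidHom.finsetProd_apply _ _ _
    have hinv : ∀ τ : C ≃ₐ[A] C, (lAut τ).comp (ofChi e φ) = ofChi e φ := fun τ => by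
      refine chi_injective e (MonoidHom.ext fun m => ?_)
      obtain ⟨m, rfl⟩ := act_surjective e τ m
      rw [chi_comp_act e τ (lAut τ) (lAut_algebraMap τ), chi_ofChi, hφ, hφ, map_prod]
      refine Fintype.prod_equiv (MulAction.toPerm τ) _ _ fun q => ?_
      rw [← hGnat]
      have hq : ((τ * q.out : C ≃ₐ[A] C) : (C ≃ₐ[A] C) ⧸ D) = MulAction.toPerm τ q := by
        rw [MulAction.toPerm_apply]
        conv_rhs => rw [← QuotientGroup.out_eq' q]
        rfl
      obtain ⟨⟨d, hd⟩, hd'⟩ := QuotientGroup.mk_out_eq_mul D (τ * q.out)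
      rw [← hq, hd', hGD d hd]
    have hrange : ∀ h, ofChi e φ h ∈ Set.range (algebraMap K L) := fun h =>
      hfix _ fun τ => DFunLike.congr_fun (hinv τ) h
    let b : H →ₐ[A] K := (AlgEquiv.ofInjective (IsScalarTower.toAlgHom A K L) (algebraMap K L).injective).symm.toAlgHom.comp
      ((ofChi e φ).codRestrict (IsScalarTower.toAlgHom A K L).range fun h => by
        obtain ⟨z, hz⟩ := hrange h
        exact ⟨z, hz⟩)
    have hb : (IsScalarTower.toAlgHom A K L).comp b = ofChi e φ := AlgHom.ext fun h =>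
      congrArg Subtype.val ((AlgEquiv.ofInjective (IsScalarTower.toAlgHom A K L) (algebraMap K L).injective).apply_symm_apply _)
    have hψ : ∀ m, φ m = ψ g m := fun m => by
      rw [hφ]
      refine Finset.prod_congr rfl fun q _ => ?_
      conv_lhs => rw [← act_one e m, ← mul_inv_cancel q.out, act_comp, hGpt]
    refine ⟨b, fun m => ⟨?_, ?_⟩⟩
    have hKL : ιL.comp (IsScalarTower.toAlgHom A K L) = ιK.comp (IsScalarTower.toAlgHom A K Kh) :=
      AlgHom.coe_ringHom_injective (IsLocalization.ringHom_ext (nonZeroDivisors A) (RingHom.ext fun a => by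
        simp only [RingHom.comp_apply, RingHom.coe_coe, AlgHom.comp_apply, IsScalarTower.coe_toAlgHom',
          ← IsScalarTower.algebraMap_apply, AlgHom.commutes]))
    · rw [← AlgHom.comp_assoc, ← hKL, AlgHom.comp_assoc, hb, chi_comp e ιL hιL, chi_ofChi, hψ]
    rw [← hψ, hφ, map_prod]
    have hsum : g m = ∑ q : (C ≃ₐ[A] C) ⧸ D, if q = ((1 : C ≃ₐ[A] C) : (C ≃ₐ[A] C) ⧸ D) then g m else 0 := by
      simp
    rw [hsum]
    refine isOrd_prod hirr _ _ _ fun q _ => ?_
    obtain ⟨m', hm'⟩ := act_surjective e q.out m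
    rw [← hm', hGpt, map_zpow₀, map_zpow₀, lAut_algebraMap, hιL]
    by_cases hq : q = ((1 : C ≃ₐ[A] C) : (C ≃ₐ[A] C) ⧸ D)
    · have hqD : q.out ∈ D := by
        have h := QuotientGroup.out_eq' q
        rw [hq] at h ⊢
        simpa using QuotientGroup.eq.1 h.symm
      rw [if_pos hq, ha₀D _ hqD, hgD _ hqD m']
      simpa using isOrd_zpow hirr ha₀p (g m')
    · have hqD : q.out ∉ D := fun h => hq (by
        rw [← QuotientGroup.out_eq' q, QuotientGroup.eq]
        simpa using inv_mem h)
      rw [if_neg hq]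
      obtain ⟨u, hu⟩ : ∃ u : Eˣ, (u : E) = j (q.out a₀) := ha₀n _ hqD
      have h0 : IsOrd p (algebraMap C F (q.out a₀)) 0 :=
        (isOrd_zero_iff (p := p)).2 ⟨u, by rw [hu, IsScalarTower.algebraMap_apply C E F, hjE]⟩
      simpa using isOrd_zpow hirr h0 (g m')
  obtain ⟨b, hb⟩ := main f hfmul hfD
  obtain ⟨b', hb'⟩ := main (fun m => - f m) (fun m m' => by rw [hfmul]; ring) (fun d hd m => by rw [hfD d hd m])
  set xb' : H →ₐ[A] Kh := mulPt x ((IsScalarTower.toAlgHom A K Kh).comp b')
  have hmulnat : ∀ u v : H →ₐ[A] Kh, ιK.comp (mulPt u v) = mulPt (ιK.comp u) (ιK.comp v) := fun u v => by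
    rw [mulPt, mulPt, ← AlgHom.comp_assoc]
    congr 1
    exact Algebra.TensorProduct.ext (AlgHom.ext fun h => by simp) (AlgHom.ext fun h => by simp)
  have hord0 : ∀ m, IsOrd p (chi e (R := F) (ιK.comp xb') m) 0 := fun m => by
    rw [hmulnat, chi_mulPt, MonoidHom.mul_apply]
    have h := isOrd_mul hirr (hf m) ((hb' m).1 ▸ (hb' m).2)
    rw [add_neg_cancel] at h
    exact h
  have hint : ∀ h, xb' h ∈ Set.range (algebraMap Ah Kh) := by
    intro h
    have hE : ∀ z : MonoidAlgebra C N, MonoidAlgebra.lift C F N (chi e (R := F) (ιK.comp xb')) z ∈ Set.range (algebraMap E F) := by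
      intro z
      induction z using MonoidAlgebra.induction_linear with
      | zero => exact ⟨0, by simp⟩
      | add a b ha hb =>
        obtain ⟨u, hu⟩ := ha
        obtain ⟨v, hv⟩ := hb
        exact ⟨u + v, by rw [map_add, map_add, hu, hv]⟩
      | single m c =>
        obtain ⟨u, hu⟩ := isOrd_zero_iff.1 (hord0 m)
        refine ⟨algebraMap C E c * u, ?_⟩
        rw [MonoidAlgebra.lift_single, hu, map_mul, Algebra.smul_def, ← IsScalarTower.algebraMap_apply]
    obtain ⟨w, hw⟩ := hE (e ((1 : C) ⊗ₜ[A] h))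
    have hw' : algebraMap E F w = ιK (xb' h) := by
      rw [hw, ← ofChi_apply]
      have h5 : ofChi e (chi e (R := F) (ιK.comp xb')) = ιK.comp xb' := chi_injective e (chi_ofChi e _)
      rw [h5]
      rfl
    by_cases hz : xb' h = 0
    · exact ⟨0, by rw [hz, map_zero]⟩
    obtain ⟨n, u, hu⟩ := IsDiscreteValuationRing.exists_units_eq_smul_zpow_of_irreducible (K := Kh) hϖ hz
    obtain ⟨k, rfl⟩ | ⟨k, rfl⟩ : (∃ k : ℕ, n = k) ∨ ∃ k : ℕ, n = -(k + 1 : ℕ) := by
      rcases n with k | k
      · exact Or.inl ⟨k, rfl⟩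
      · exact Or.inr ⟨k, rfl⟩
    · exact ⟨u * algebraMap A Ah ϖ ^ k, by rw [hu, map_mul, map_pow, Units.smul_def, Algebra.smul_def, zpow_natCast]⟩
    · exfalso
      have hp' : algebraMap Ah Kh (algebraMap A Ah ϖ) ≠ 0 := by simpa using hϖ.ne_zero
      have h1 : algebraMap Ah Kh (algebraMap A Ah ϖ) ^ (k + 1) * xb' h = algebraMap Ah Kh u := by
        rw [hu, Units.smul_def, Algebra.smul_def, zpow_neg, zpow_natCast]
        field_simp
      have h2 := congrArg ιK h1
      rw [map_mul, map_pow, hιK, hιK, ← hw', IsScalarTower.algebraMap_apply Ah E F, IsScalarTower.algebraMap_apply Ah E F,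
        ← map_pow, ← map_mul] at h2
      have h3 := IsFractionRing.injective E F h2
      have h4 : IsUnit (algebraMap Ah E (algebraMap A Ah ϖ) ^ (k + 1) * w) := h3 ▸ u.isUnit.map _
      rw [← IsScalarTower.algebraMap_apply] at h4
      exact hirr.not_isUnit (isUnit_of_mul_isUnit_left (by rwa [pow_succ', mul_assoc] at h4))
  let a : H →ₐ[A] Ah := (AlgEquiv.ofInjective (IsScalarTower.toAlgHom A Ah Kh) (IsFractionRing.injective Ah Kh)).symm.toAlgHom.comp
    (xb'.codRestrict (IsScalarTower.toAlgHom A Ah Kh).range fun h => by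
      obtain ⟨z, hz⟩ := hint h
      exact ⟨z, hz⟩)
  have ha : (IsScalarTower.toAlgHom A Ah Kh).comp a = xb' := AlgHom.ext fun h =>
    congrArg Subtype.val ((AlgEquiv.ofInjective (IsScalarTower.toAlgHom A Ah Kh) (IsFractionRing.injective Ah Kh)).apply_symm_apply _)
  refine ⟨a, b, ?_⟩
  have hιKi : Function.Injective ιK := ιK.toRingHom.injective
  have key : ιK.comp x = ιK.comp (mulPt ((IsScalarTower.toAlgHom A Ah Kh).comp a) ((IsScalarTower.toAlgHom A K Kh).comp b)) := by
    refine chi_injective e (MonoidHom.ext fun m => ?_)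
    rw [ha, hmulnat, hmulnat, chi_mulPt, chi_mulPt, MonoidHom.mul_apply, MonoidHom.mul_apply, (hb m).1, (hb' m).1,
      mul_assoc, ← map_mul, show ψ (fun m => -f m) m * ψ f m = 1 by
        rw [← Finset.prod_mul_distrib]
        exact Finset.prod_eq_one fun q _ => by
          rw [← map_mul, ← zpow_add₀ ha₀0, neg_add_cancel, zpow_zero, map_one],
      map_one, mul_one]
  exact AlgHom.ext fun z => hιKi (DFunLike.congr_fun key z)

end Groth.Agent.WApprox26
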